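import Cfsg.Agent.Blocks.Defect.CentralRankOne

/-!
# The characters of a block with central defect group

If the defect group `Z` is central then all members of the block agree on the `p`-regular elements,
they vanish at elements whose `p`-part is not in `Z`, and every linear character of `Z` is the
central character of some member.
-/

set_option autoImplicit false
open Cfsg

namespace CfsgLib.Blocks

universe u

variable {K : Type u} [Group K] [Finite K] {p : ℕ} {M : Ideal AlgInt} {B : Set (IrrCharacter K)}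
  {Z : Subgroup K}

open scoped Classical in
theorem regular_normSq_of_central_defect [Fintype K] (hM : IsPModular p M) (hB : IsPBlock M B)
    (hZc : Z ≤ Subgroup.center K) (hD : IsDefectGroup p M B Z) {f : IrrCharacter K} (hf : f ∈ B) :
    (Nat.card Z : ℝ) * ∑ x ∈ Finset.univ.filter (fun x : K => ¬ p ∣ orderOf x),
      Complex.normSq ((f : K → ℂ) x) = (Nat.card K : ℝ) := by
  haveI := isMaximal_of_isPModular hM
  haveI : Fact p.Prime := ⟨hM.1⟩
  haveI := charP_kres hM
  have hZp : IsPGroup p Z := ((isDefectGroup_topEl_iff hB Z).1 hD).2.1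
  obtain ⟨T, hT, -, hTf⟩ := exists_row_of_central_defect hM hB hZc hD hf
  have h := hT f
  rw [hTf, Int.cast_one, mul_one, HeightZero.regPair_eq_sum] at h
  have e : ∑ x : K, (if p ∣ orderOf x then 0 else (f : K → ℂ) x * (f : K → ℂ) x⁻¹) =
      ((∑ x ∈ Finset.univ.filter (fun x : K => ¬ p ∣ orderOf x),
        Complex.normSq ((f : K → ℂ) x) : ℝ) : ℂ) := by
    rw [Complex.ofReal_sum, Finset.sum_filter]
    refine Finset.sum_congr rfl fun x _ => ?_
    rw [Chars.map_inv_eq_conj (Chars.isCharacter_coe f), Complex.mul_conj]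
    by_cases hx : p ∣ orderOf x <;> simp [hx]
  rw [e, ← Nat.cast_pow, ← pGroup_card_factorization hM.1 hZp] at h
  exact_mod_cast h

/-- A member of a block with central defect group `Z` vanishes off the sections of `Z`. -/
theorem eq_zero_of_pPart_not_mem (hM : IsPModular p M) (hB : IsPBlock M B)
    (hZc : Z ≤ Subgroup.center K) (hD : IsDefectGroup p M B Z) {f : IrrCharacter K} (hf : f ∈ B)
    {g : K} (hg : ∀ z ∈ Z, ¬ IsPPart p g z) : (f : K → ℂ) g = 0 := by
  classical
  haveI := Fintype.ofFinite K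
  haveI := isMaximal_of_isPModular hM
  haveI : Fact p.Prime := ⟨hM.1⟩
  haveI := charP_kres hM
  have hZp : IsPGroup p Z := ((isDefectGroup_topEl_iff hB Z).1 hD).2.1
  have h1 := regular_normSq_of_central_defect hM hB hZc hD hf
  rw [card_mul_regular_normSq_eq hM hZc hZp f] at h1
  have htot : ∑ g : K, Complex.normSq ((f : K → ℂ) g) = (Nat.card K : ℝ) := by
    have h := (Chars.sum_mul_map_inv f f).trans (if_pos rfl)
    simp only [Chars.map_inv_eq_conj (Chars.isCharacter_coe f), Complex.mul_conj] at h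
    exact_mod_cast h
  rw [← htot, ← Finset.sum_filter_add_sum_filter_not Finset.univ
    (fun g : K => ∃ z ∈ Z, IsPPart p g z)] at h1
  have h2 : ∑ g ∈ Finset.univ.filter (fun g : K => ¬ ∃ z ∈ Z, IsPPart p g z),
      Complex.normSq ((f : K → ℂ) g) = 0 := by linarith
  exact Complex.normSq_eq_zero.1
    ((Finset.sum_eq_zero_iff_of_nonneg fun g _ => Complex.normSq_nonneg _).1 h2 g
      (Finset.mem_filter.2 ⟨Finset.mem_univ g, fun ⟨z, hz, h⟩ => hg z hz h⟩))

/-- The members of a block with central defect group agree on the `p`-regular elements. -/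
theorem apply_regular_eq_of_central_defect (hM : IsPModular p M) (hB : IsPBlock M B)
    (hZc : Z ≤ Subgroup.center K) (hD : IsDefectGroup p M B Z) {χ ψ : IrrCharacter K}
    (hχ : χ ∈ B) (hψ : ψ ∈ B) {x : K} (hx : ¬ p ∣ orderOf x) :
    (ψ : K → ℂ) x = (χ : K → ℂ) x := by
  classical
  haveI := Fintype.ofFinite K
  obtain ⟨t, ht⟩ := pRegularPart_eq_smul_of_central_defect hM hB hZc hD hχ hψ
  have hval : ∀ y : K, ¬ p ∣ orderOf y → (ψ : K → ℂ) y = t * (χ : K → ℂ) y := by
    intro y hy
    have := congrFun ht y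
    simpa [pRegularPart, IsPRegular, hy] using this
  have h1 := hval 1 (by simp [hM.1.ne_one])
  rw [← Chars.coe_charDegree, ← Chars.coe_charDegree] at h1
  have hnorm : Complex.normSq t = 1 := by
    have hχn := regular_normSq_of_central_defect hM hB hZc hD hχ
    have hψn := regular_normSq_of_central_defect hM hB hZc hD hψ
    rw [Finset.sum_congr rfl fun y hy =>
      by rw [hval y (Finset.mem_filter.1 hy).2, Complex.normSq_mul], ← Finset.mul_sum,
      mul_left_comm, hχn] at hψn
    exact mul_right_cancel₀ (Nat.cast_ne_zero.2 Nat.card_pos.ne') (by rw [one_mul]; exact hψn)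
  have h0 : ((charDegree (χ : K → ℂ) : ℕ) : ℂ) ≠ 0 :=
    Nat.cast_ne_zero.2 (Chars.charDegree_pos χ).ne'
  have ht1 : t = ((charDegree (ψ : K → ℂ) : ℝ) / (charDegree (χ : K → ℂ) : ℝ) : ℝ) := by
    push_cast
    rw [eq_div_iff h0]
    exact h1.symm
  have hone : t = 1 := by
    rw [ht1, Complex.normSq_ofReal] at hnorm
    rw [ht1]
    have hpos : (0 : ℝ) ≤ (charDegree (ψ : K → ℂ) : ℝ) / (charDegree (χ : K → ℂ) : ℝ) := by
      positivity
    have : (charDegree (ψ : K → ℂ) : ℝ) / (charDegree (χ : K → ℂ) : ℝ) = 1 := by nlinarith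
    rw [this, Complex.ofReal_one]
  rw [hval x hx, hone, one_mul]

/-- Every linear character of a central defect group is the central character of some member. -/
theorem exists_mem_with_central_values (hM : IsPModular p M) (hB : IsPBlock M B)
    (hZc : Z ≤ Subgroup.center K) (hD : IsDefectGroup p M B Z) (lam : Z → ℂ)
    (hmul : ∀ a b : Z, lam (a * b) = lam a * lam b) (hone : lam 1 = 1) :
    ∃ η ∈ B, ∀ z : Z, (η : K → ℂ) z = lam z * (η : K → ℂ) 1 := by
  classical
  haveI := Fintype.ofFinite K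
  haveI := Fintype.ofFinite Z
  haveI := isMaximal_of_isPModular hM
  haveI : Fact p.Prime := ⟨hM.1⟩
  haveI := charP_kres hM
  have hZp : IsPGroup p Z := ((isDefectGroup_topEl_iff hB Z).1 hD).2.1
  obtain ⟨η, hη, hS⟩ : ∃ η ∈ B,
      ∑ z : Z, (η : K → ℂ) z / (η : K → ℂ) 1 * lam z⁻¹ ≠ 0 := by
    by_contra hcon
    simp only [not_exists, not_and, not_not] at hcon
    have hrow : ∀ z : Z, z ≠ 1 →
        ∑ η ∈ B.toFinite.toFinset, (η : K → ℂ) 1 * (η : K → ℂ) z = 0 := by
      intro z hz
      rw [← finsum_block_eq_sum]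
      refine finsum_block_one_mul_singular hM hB ?_
      obtain ⟨k, hk⟩ := IsPGroup.iff_orderOf.1 hZp z
      have hk0 : k ≠ 0 := by
        rintro rfl
        rw [pow_zero, orderOf_eq_one_iff] at hk
        exact hz hk
      rw [Subgroup.orderOf_coe, hk]
      exact dvd_pow_self p hk0
    have hzero : ∑ η ∈ B.toFinite.toFinset, (η : K → ℂ) 1 ^ 2 *
        ∑ z : Z, (η : K → ℂ) z / (η : K → ℂ) 1 * lam z⁻¹ = 0 :=
      Finset.sum_eq_zero fun η hη => by
        rw [hcon η ((Set.Finite.mem_toFinset _).1 hη), mul_zero]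
    have hsq : ∀ η : IrrCharacter K, ∀ z : Z,
        (η : K → ℂ) 1 ^ 2 * ((η : K → ℂ) z / (η : K → ℂ) 1 * lam z⁻¹) =
          lam z⁻¹ * ((η : K → ℂ) 1 * (η : K → ℂ) z) := fun η z => by
      field_simp [Chars.map_one_ne_zero η]
    simp only [Finset.mul_sum, hsq] at hzero
    rw [Finset.sum_comm] at hzero
    rw [Finset.sum_eq_single (1 : Z) (fun z _ hz => by rw [← Finset.mul_sum, hrow z hz, mul_zero])
      (fun h => absurd (Finset.mem_univ _) h), inv_one, hone] at hzero
    simp only [one_mul, OneMemClass.coe_one] at hzero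
    have hnat : ∑ η ∈ B.toFinite.toFinset, charDegree (η : K → ℂ) * charDegree (η : K → ℂ) = 0 := by
      have : ((∑ η ∈ B.toFinite.toFinset, charDegree (η : K → ℂ) * charDegree (η : K → ℂ) : ℕ) : ℂ)
          = 0 := by
        rw [← hzero, Nat.cast_sum]
        exact Finset.sum_congr rfl fun η _ => by rw [Nat.cast_mul, Chars.coe_charDegree]
      exact_mod_cast this
    obtain ⟨η, hη⟩ := nonempty_of_isPBlock hB
    have := Finset.sum_eq_zero_iff.1 hnat η ((Set.Finite.mem_toFinset _).2 hη)
    have := Chars.charDegree_pos η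
    simp_all
  refine ⟨η, hη, fun a => ?_⟩
  have hshift : ∑ z : Z, (η : K → ℂ) z / (η : K → ℂ) 1 * lam z⁻¹ =
      ((η : K → ℂ) a / (η : K → ℂ) 1 * lam a⁻¹) *
        ∑ z : Z, (η : K → ℂ) z / (η : K → ℂ) 1 * lam z⁻¹ := by
    conv_lhs => rw [← Equiv.sum_comp (Equiv.mulLeft a)]
    rw [Finset.mul_sum]
    refine Finset.sum_congr rfl fun z _ => ?_
    simp only [Equiv.coe_mulLeft, Subgroup.coe_mul, mul_inv_rev, hmul]
    rw [Chars.map_mul_of_mem_center η (hZc a.2)]
    ring
  have h1 : (η : K → ℂ) a / (η : K → ℂ) 1 * lam a⁻¹ = 1 :=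
    mul_right_cancel₀ hS (by rw [one_mul]; exact hshift.symm)
  have h2 : lam a⁻¹ * lam a = 1 := by rw [← hmul, inv_mul_cancel, hone]
  have h3 : (η : K → ℂ) a / (η : K → ℂ) 1 = lam a := by
    calc (η : K → ℂ) a / (η : K → ℂ) 1
        = (η : K → ℂ) a / (η : K → ℂ) 1 * (lam a⁻¹ * lam a) := by rw [h2, mul_one]
      _ = lam a := by rw [← mul_assoc, h1, one_mul]
  rw [← h3, div_mul_cancel₀ _ (Chars.map_one_ne_zero η)]

end CfsgLib.Blocks
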