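import Cfsg.Agent.Blocks.Defect.Principal
import Cfsg.Agent.Blocks.IsaacsSmith

/-!
# The Brauer image of the principal idempotent at a Sylow subgroup

It is the average of the p'-part of the centralizer.
-/

set_option autoImplicit false
open scoped MonoidAlgebra IsMulCommutative
open MonoidAlgebra (single)

namespace CfsgLib.Blocks.PrincipalCentralizer

open Cfsg CfsgLib.Blocks CfsgLib.Blocks.IsaacsSmith

variable {k : Type*} [Field k] {G : Type*} [Group G] [Fintype G] {p : ℕ} [Fact p.Prime]
  [CharP k p] (P : Sylow p G)

open Classical in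
/-- The average of the p'-part of the centralizer of a Sylow subgroup. -/
noncomputable def avgReg : k[G] :=
  ∑ x ∈ Finset.univ.filter (· ∈ regCentralizer p (P : Subgroup G)),
    single x (Nat.card (regCentralizer p (P : Subgroup G)) : k)⁻¹

omit [CharP k p] in
theorem coeff_avgReg (g : G) [Decidable (g ∈ regCentralizer p (P : Subgroup G))] :
    (avgReg (k := k) P).coeff g = if g ∈ regCentralizer p (P : Subgroup G) then
      (Nat.card (regCentralizer p (P : Subgroup G)) : k)⁻¹ else 0 := by
  classical
  rw [avgReg, MonoidAlgebra.coeff_sum, Finsupp.finsetSum_apply]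
  split_ifs with hg
  · rw [Finset.sum_eq_single g]
    · exact Finsupp.single_eq_same
    · intro b _ hb; exact Finsupp.single_eq_of_ne (Ne.symm hb)
    · intro h; exact absurd (Finset.mem_filter.2 ⟨Finset.mem_univ _, hg⟩) h
  · refine Finset.sum_eq_zero fun b hb => Finsupp.single_eq_of_ne ?_
    rintro rfl
    exact hg (Finset.mem_filter.1 hb).2

theorem natCast_card_ne_zero : (Nat.card (regCentralizer p (P : Subgroup G)) : k) ≠ 0 := by
  rw [Ne, CharP.cast_eq_zero_iff k p]
  exact Transfer.not_dvd_of_coprime (coprime_card_regCentralizer P)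

theorem augA_avgReg : augA k G (avgReg (k := k) P) = 1 := by
  classical
  rw [avgReg, map_sum]
  simp only [augA_single, Finset.sum_const, nsmul_eq_mul]
  rw [show ((Finset.univ.filter (· ∈ regCentralizer p (P : Subgroup G))).card : k) =
      (Nat.card (regCentralizer p (P : Subgroup G)) : k) by
    rw [Nat.card_eq_fintype_card, Fintype.card_subtype]]
  exact mul_inv_cancel₀ (natCast_card_ne_zero P)

omit [CharP k p] in
theorem single_mul_avgReg {x : G} (hx : x ∈ regCentralizer p (P : Subgroup G)) :
    single x (1 : k) * avgReg P = avgReg P := by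
  classical
  refine MonoidAlgebra.ext (Finsupp.ext fun g => ?_)
  rw [MonoidAlgebra.coeff_single_mul_apply, one_mul, coeff_avgReg, coeff_avgReg]
  exact if_congr (Subgroup.mul_mem_cancel_left _ (inv_mem hx)) rfl rfl

omit [CharP k p] in
theorem isFixedBy_avgReg :
    IsFixedBy (avgReg (k := k) P) (Subgroup.normalizer ((P : Subgroup G) : Set G)) := by
  classical
  intro s hs g
  rw [coeff_avgReg, coeff_avgReg]
  exact if_congr (Subgroup.mem_normalizer_iff.1 (le_normalizer_regCentralizer _ hs) g).symm rfl rfl

theorem avgReg_mul_self : avgReg (k := k) P * avgReg P = avgReg P := by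
  classical
  conv_lhs => arg 1; rw [avgReg]
  rw [Finset.sum_mul, Finset.sum_congr rfl (g := fun _ =>
    (Nat.card (regCentralizer p (P : Subgroup G)) : k)⁻¹ • avgReg (k := k) P), Finset.sum_const,
    Nat.card_eq_fintype_card, Fintype.card_subtype, ← Nat.cast_smul_eq_nsmul k, smul_smul]
  · rw [mul_inv_cancel₀, one_smul]
    have := natCast_card_ne_zero (k := k) P
    rwa [Nat.card_eq_fintype_card, Fintype.card_subtype] at this
  · intro x hx
    calc single x ((Nat.card (regCentralizer p (P : Subgroup G)) : k)⁻¹) * avgReg P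
        = ((Nat.card (regCentralizer p (P : Subgroup G)) : k)⁻¹ • single x (1 : k)) * avgReg P := by
          rw [MonoidAlgebra.smul_single', mul_one]
      _ = _ := by rw [smul_mul_assoc, single_mul_avgReg P (Finset.mem_filter.1 hx).2]

omit [CharP k p] in
theorem avgReg_mem_centerIn :
    avgReg (k := k) P ∈ centerIn k (Subgroup.centralizer ((P : Subgroup G) : Set G)) := by
  classical
  refine ⟨fun g hg => ?_, (isFixedBy_avgReg P).mono (Subgroup.centralizer_le_normalizer _)⟩
  rw [coeff_avgReg, if_neg fun h => hg (regCentralizer_le _ h)]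

/-- The principal idempotent of `C(P)` is the average of its p'-part. -/
theorem eq_avgReg {f : k[G]}
    (hf : IsPrincipalIdem (Subgroup.centralizer ((P : Subgroup G) : Set G)) f) :
    f = avgReg P := by
  classical
  set C := Subgroup.centralizer ((P : Subgroup G) : Set G) with hC
  have haf : avgReg P * f = f :=
    hf.mul_eq_self (avgReg_mem_centerIn P) (avgReg_mul_self P) (augA_avgReg P)
  let Z : Subgroup G := (P : Subgroup G) ⊓ C
  haveI : IsMulCommutative Z := ⟨⟨fun a b => Subtype.ext
    (Subgroup.mem_centralizer_iff.1 b.2.2 a a.2.1)⟩⟩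
  have hz : ∀ x : G, ∃ z : Z, x ∈ C → (z : G)⁻¹ * x ∈ regCentralizer p (P : Subgroup G) := by
    intro x
    by_cases hx : x ∈ C
    · obtain ⟨a, ha, b, hb, rfl⟩ := exists_decomp_centralizer P hx
      have haC : a ∈ C := by
        simpa using mul_mem hx (inv_mem (regCentralizer_le _ hb))
      exact ⟨⟨a, ha, haC⟩, fun _ => by simpa using hb⟩
    · exact ⟨1, fun h => absurd h hx⟩
  choose z hz using hz
  let w : k[Z] := ∑ x : G, single (z x) (f.coeff x)
  have hw : emb k Z.subtype w * avgReg P = f := by
    rw [map_sum, Finset.sum_mul]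
    calc ∑ x : G, emb k Z.subtype (single (z x) (f.coeff x)) * avgReg P
        = ∑ x : G, single x (f.coeff x) * avgReg P := by
          refine Finset.sum_congr rfl fun x _ => ?_
          rw [emb, MonoidAlgebra.mapDomainAlgHom_apply, MonoidAlgebra.mapDomain_single,
            Subgroup.coe_subtype]
          by_cases hx : x ∈ C
          · have e : single x (f.coeff x) =
                single (z x : G) (f.coeff x) * single ((z x : G)⁻¹ * x) (1 : k) := by
              rw [MonoidAlgebra.single_mul_single, mul_inv_cancel_left, mul_one]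
            rw [e, mul_assoc, single_mul_avgReg P (hz x hx)]
          · rw [hf.1.mem.1 x hx, MonoidAlgebra.single_zero, MonoidAlgebra.single_zero]
      _ = f * avgReg P := by
          rw [← Finset.sum_mul]
          congr 1
          refine MonoidAlgebra.ext (Finsupp.ext fun g => ?_)
          rw [MonoidAlgebra.coeff_sum, Finsupp.finsetSum_apply, Finset.sum_eq_single g]
          · exact Finsupp.single_eq_same
          · intro b _ hb; exact Finsupp.single_eq_of_ne (Ne.symm hb)
          · simp
      _ = f := by
          rw [(commute_centerIn hf.1.mem (avgReg_mem_centerIn P)).eq, haf]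
  have hwaug : augA k Z w = 1 := by
    have h1 := congrArg (augA k G) hw
    rwa [map_mul, augA_emb, augA_avgReg, mul_one, hf.2] at h1
  obtain ⟨n, hn⟩ := IsPGroup.iff_card.1 (P.2.to_le (inf_le_left : Z ≤ (P : Subgroup G)))
  haveI : CharP k[Z] p := charP_of_injective_algebraMap (R := k) (A := k[Z])
    (fun a b h => by
      have := congrArg (augA k Z) h
      rwa [AlgHom.commutes, AlgHom.commutes] at this) p
  haveI : ExpChar k[Z] p := ExpChar.prime (Fact.out : p.Prime)
  have hwq : w ^ p ^ n = 1 := by
    have hexp : ∀ y : Z, y ^ p ^ n = 1 := fun y => by rw [← hn]; exact pow_card_eq_one'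
    rw [sum_pow_char_pow p n]
    simp only [MonoidAlgebra.single_pow, hexp]
    rw [MonoidAlgebra.one_def]
    have hsum : ∀ (s : Finset G) (c : G → k),
        ∑ x ∈ s, single (1 : Z) (c x) = single (1 : Z) (∑ x ∈ s, c x) := fun s c => by
      induction s using Finset.induction with
      | empty => simp
      | insert a s ha ih => rw [Finset.sum_insert ha, Finset.sum_insert ha, ih,
          MonoidAlgebra.single_add]
    rw [hsum]
    congr 1
    haveI : ExpChar k p := ExpChar.prime (Fact.out : p.Prime)
    rw [← sum_pow_char_pow p n]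
    have : ∑ x : G, f.coeff x = 1 := by rw [← augA_apply]; exact hf.2
    rw [this, one_pow]
  have hcomm : Commute (emb k Z.subtype w) (avgReg P) := by
    have hfix : IsFixedBy (avgReg (k := k) P) Z := (isFixedBy_avgReg P).mono
      (inf_le_left.trans Subgroup.le_normalizer)
    rw [map_sum]
    refine Commute.sum_left _ _ _ fun x _ => ?_
    rw [emb, MonoidAlgebra.mapDomainAlgHom_apply, MonoidAlgebra.mapDomain_single,
      ← mul_one (f.coeff x), ← MonoidAlgebra.smul_single']
    exact (isFixedBy_iff_commute.1 hfix _ (z x).2).smul_left _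
  have hfpow : f ^ (p ^ n) = f :=
    IsIdempotentElem.pow_eq hf.1.idem (pow_ne_zero _ (Fact.out : p.Prime).ne_zero)
  rw [← hfpow, ← hw, hcomm.mul_pow, ← map_pow, hwq, map_one, one_mul]
  exact IsIdempotentElem.pow_eq (avgReg_mul_self P) (pow_ne_zero _ (Fact.out : p.Prime).ne_zero)

/-- The Brauer image of the principal idempotent at a Sylow subgroup. -/
theorem brTrunc_eq_avgReg {e : k[G]} (he : IsPrincipalIdem (⊤ : Subgroup G) e) :
    brTrunc (P : Subgroup G) e = avgReg P := by
  classical
  set C := Subgroup.centralizer ((P : Subgroup G) : Set G) with hC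
  obtain ⟨f, hf⟩ := exists_isPrincipalIdem (k := k) C
  have hf' : IsPrincipalIdem (⊤ ⊓ C) f := by rwa [top_inf_eq]
  have hmem : brTrunc (P : Subgroup G) e ∈ centerIn k C := by
    have := brTrunc_mem_centerIn (Q := (P : Subgroup G)) he.1.mem
    rwa [top_inf_eq] at this
  have hidem : IsIdempotentElem (brTrunc (P : Subgroup G) e) := by
    show _ * _ = _
    rw [← brTrunc_mul P.2 (he.1.mem.2.mono le_top) (he.1.mem.2.mono le_top), he.1.idem]
  calc brTrunc (P : Subgroup G) e
      = ∑ f' ∈ blockIdems k C, brTrunc (P : Subgroup G) e * f' := by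
        rw [← Finset.mul_sum, sum_blockIdems, mul_one]
    _ = f := by
        rw [Finset.sum_eq_single f]
        · exact (he.isPairOfIdem P.2 le_top hf').2
        · intro f' hf'm hne
          rcases (mem_blockIdems.1 hf'm).2.2.2 _ hmem hidem with h0 | h1
          · exact h0
          · exfalso
            have hpair : IsPairOfIdem p (⊤ : Subgroup G) e (P : Subgroup G) f' :=
              ⟨⟨P.2, le_top, by rw [top_inf_eq]; exact mem_blockIdems.1 hf'm⟩, h1⟩
            have h2 := hpair.isPrincipalIdem he
            rw [top_inf_eq] at h2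
            exact hne (h2.eq hf)
        · intro h; exact absurd (mem_blockIdems.2 hf.1) h
    _ = avgReg P := eq_avgReg P hf

include P in
open Classical in
/-- The coefficients of the principal idempotent sum to a nonzero value on every normal
subgroup. -/
theorem sum_coeff_normal_ne_zero {e : k[G]} (he : IsPrincipalIdem (⊤ : Subgroup G) e)
    (N : Subgroup G) [N.Normal] :
    ∑ x ∈ Finset.univ.filter (· ∈ N), e.coeff x ≠ 0 := by
  set a : k[G] := MonoidAlgebra.ofCoeff (e.coeff.filter fun g => g ∈ N) with ha
  have hcoe : ∀ g, a.coeff g = if g ∈ N then e.coeff g else 0 := fun g => Finsupp.filter_apply _ _ _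
  have hfix : IsFixedBy a (P : Subgroup G) := by
    intro s _ g
    rw [hcoe, hcoe, he.1.mem.2 s (Subgroup.mem_top s) g]
    refine if_congr ⟨fun h => ?_, fun h => ‹N.Normal›.conj_mem g h s⟩ rfl rfl
    simpa [mul_assoc] using ‹N.Normal›.conj_mem _ h s⁻¹
  have haug : augA k G a = ∑ x ∈ Finset.univ.filter (· ∈ N), e.coeff x := by
    rw [augA_apply, Finset.sum_filter]
    exact Finset.sum_congr rfl fun g _ => hcoe g
  have hbr : ∀ g, (brTrunc (P : Subgroup G) a).coeff g =
      if g ∈ N then (avgReg (k := k) P).coeff g else 0 := by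
    intro g
    rw [← brTrunc_eq_avgReg P he]
    by_cases hg : g ∈ Subgroup.centralizer ((P : Subgroup G) : Set G)
    · rw [coeff_brTrunc_of_mem _ hg, coeff_brTrunc_of_mem _ hg, hcoe]
    · rw [coeff_brTrunc_of_not_mem _ hg, coeff_brTrunc_of_not_mem _ hg, ite_self]
  rw [← haug, ← augA_brTrunc P.2 hfix, augA_apply]
  simp only [hbr, coeff_avgReg, ← ite_and]
  rw [← Finset.sum_filter, Finset.sum_const, nsmul_eq_mul]
  refine mul_ne_zero ?_ (inv_ne_zero (natCast_card_ne_zero P))
  rw [Ne, CharP.cast_eq_zero_iff k p]
  intro hd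
  refine Transfer.not_dvd_of_coprime (coprime_card_regCentralizer P) (hd.trans ?_)
  rw [← Fintype.card_subtype, ← Nat.card_eq_fintype_card]
  exact Subgroup.card_dvd_of_le (H := N ⊓ regCentralizer p (P : Subgroup G)) inf_le_right

end CfsgLib.Blocks.PrincipalCentralizer
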