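import Cfsg.Agent.Blocks.Defect.StableClass
import Cfsg.Agent.Blocks.Defect.Lifts
import Cfsg.Agent.Blocks.Orth.Blocks

/-!
# Orbit sums as blocks, and the converse covering criterion
-/

set_option autoImplicit false
open scoped MonoidAlgebra
open MonoidAlgebra (single)
open Cfsg

namespace CfsgLib.Blocks

section orbit

variable {k : Type*} [Field k] {G : Type*} [Group G] [Finite G]

/-- An orbit sum is a block when the central idempotents of the larger group lie on the smaller. -/
theorem isBlockIdem_orbitSum {L K : Subgroup G} {f : k[G]} (hKL : K ≤ L)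
    (hLK : L ≤ Subgroup.normalizer (K : Set G)) (hf : IsBlockIdem K f)
    (hsupp : ∀ i ∈ centerIn k L, i * i = i → IsSupportedOn i K) :
    IsBlockIdem L (orbitSum L f) := by
  have hE := orbitSum_mem_centerIn hKL le_rfl hLK hf
  have hEf := orbitSum_mul_of_mem hLK hf (self_mem_conjOrbit L f)
  refine ⟨hE, orbitSum_idem hLK hf, fun h0 => hf.ne_zero (by rw [← hEf, h0, zero_mul]),
    fun i hi hii => ?_⟩
  rcases hf.2.2.2 i ⟨hsupp i hi hii, hi.2.mono hKL⟩ hii with h | h
  · left
    rw [orbitSum, Finset.mul_sum]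
    refine Finset.sum_eq_zero fun a ha => ?_
    obtain ⟨n, hn, rfl⟩ := mem_conjOrbit.mp ha
    rw [← isFixedBy_iff_conjA.mp hi.2 n hn, ← map_mul, h, map_zero]
  · right
    rw [orbitSum, Finset.mul_sum]
    refine Finset.sum_congr rfl fun a ha => ?_
    obtain ⟨n, hn, rfl⟩ := mem_conjOrbit.mp ha
    conv_lhs => rw [← isFixedBy_iff_conjA.mp hi.2 n hn, ← map_mul, h]

variable {p : ℕ}

/-- A `p`-subgroup kept by the Brauer map and as large as a defect group is a defect group. -/
theorem IsDefectGroupIdem.of_card_le {H D R : Subgroup G} {e : k[G]}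
    (he : e ∈ centerIn k H) (hD : IsDefectGroupIdem p H e D) (hRH : R ≤ H) (hR : IsPGroup p R)
    (hne : brTrunc R e ≠ 0) (hcard : Nat.card D ≤ Nat.card R) : IsDefectGroupIdem p H e R := by
  obtain ⟨x, hx, hle⟩ := hD.2.2.2 R hRH hR hne
  have heq := map_conj_eq_of_le hle hcard
  have h := Subgroup.map_mono (f := (MulAut.conj x⁻¹).toMonoidHom) heq.ge
  rw [map_conj_map_conj, inv_mul_cancel, map_conj_one] at h
  have h2 := hD.map_conj he (H.inv_mem hx)
  have h3 : D.map (MulAut.conj x⁻¹).toMonoidHom = R :=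
    Subgroup.eq_of_le_of_card_ge h (by
      rw [card_map_conj]
      have := Subgroup.card_le_of_le hle
      rwa [card_map_conj] at this)
  rwa [h3] at h2

variable [Fact p.Prime] [CharP k p]

/-- The Brauer map at a `p`-subgroup keeping a block over `f` keeps a fixed conjugate of `f`. -/
theorem exists_fixed_member_of_covers {N : Subgroup G} [N.Normal] {e f : k[G]} {P : Subgroup G}
    (he : IsBlockIdem ⊤ e) (hf : IsBlockIdem N f) (hP : IsPGroup p P) (hPe : brTrunc P e ≠ 0)
    (hef : e * f ≠ 0) :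
    ∃ f' ∈ conjOrbit ⊤ f, IsFixedBy f' P ∧ brTrunc P f' ≠ 0 ∧ e * f' ≠ 0 := by
  have hNn : (⊤ : Subgroup G) ≤ Subgroup.normalizer (N : Set G) :=
    (Subgroup.normalizer_eq_top_iff.mpr inferInstance).ge
  have hPE : brTrunc P (orbitSum ⊤ f) ≠ 0 := by
    intro h0
    apply hPe
    rw [← mul_orbitSum_eq_self le_top hNn hf he hef,
      brTrunc_mul hP ((isFixedBy_orbitSum ⊤ f).mono le_top) (he.1.2.mono le_top), h0, zero_mul]
  obtain ⟨f', hf', hfix, hne⟩ := exists_fixed_member hP le_top hPE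
  refine ⟨f', hf', hfix, hne, ?_⟩
  obtain ⟨n, hn, rfl⟩ := mem_conjOrbit.mp hf'
  rw [← isFixedBy_iff_conjA.mp he.1.2 n hn, ← map_mul]
  exact fun h => hef ((conjA n).map_eq_zero_iff.mp h)

end orbit

section translate

variable {M : Ideal AlgInt} [hM : M.IsMaximal] {G : Type*} [Group G] [Fintype G]

/-- The central idempotents of a subgroup live on its `p`-regular elements. -/
theorem coeff_eq_zero_of_singular {p : ℕ} [Fact p.Prime] (hp : IsPModular p M) {H : Subgroup G}
    {i : MonoidAlgebra (kres M) G} (hi : i ∈ centerIn (kres M) H) (hii : i * i = i) {g : G}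
    (hg : p ∣ orderOf g) : i.coeff g = 0 := by
  classical
  haveI := Fintype.ofFinite H
  rw [eq_sum_filter_blockIdems hi hii, MonoidAlgebra.coeff_sum, Finsupp.finsetSum_apply]
  refine Finset.sum_eq_zero fun f hf => ?_
  obtain ⟨b, hb, rfl⟩ := exists_subEl_eq (mem_blockIdems.mp (Finset.mem_filter.mp hf).1)
  rw [coeff_subEl]
  by_cases hgH : g ∈ H
  · rw [show subgroupBlockCoeff H b g = blockCoeff b ⟨g, hgH⟩ by simp [subgroupBlockCoeff, hgH],
      blockCoeff_eq_zero_of_singular hp hb (by rwa [Subgroup.orderOf_mk]), redC_zero]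
  · simp [subgroupBlockCoeff, hgH, redC_zero]

/-- In a group over a normal subgroup of `p`-power index the central idempotents lie on it. -/
theorem isSupportedOn_of_index_pow {p : ℕ} [Fact p.Prime] (hp : IsPModular p M) {N L : Subgroup G}
    (hN : (N.subgroupOf L).Normal) (hi' : ∃ j : ℕ, (N.subgroupOf L).index = p ^ j)
    {i : MonoidAlgebra (kres M) G} (hi : i ∈ centerIn (kres M) L) (hii : i * i = i) :
    IsSupportedOn i N := by
  intro g hg
  by_cases hgL : g ∈ L
  · refine coeff_eq_zero_of_singular hp hi hii ?_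
    by_contra hnd
    obtain ⟨j, hj⟩ := hi'
    haveI := hN
    have h1 : orderOf (QuotientGroup.mk (⟨g, hgL⟩ : L) : L ⧸ N.subgroupOf L) ∣ p ^ j :=
      hj ▸ orderOf_dvd_natCard _
    have h2 : orderOf (QuotientGroup.mk (⟨g, hgL⟩ : L) : L ⧸ N.subgroupOf L) ∣ orderOf g := by
      rw [← Subgroup.orderOf_mk g hgL]
      exact orderOf_map_dvd (QuotientGroup.mk' (N.subgroupOf L)) _
    exact hg ((QuotientGroup.eq_one_iff (N := N.subgroupOf L) ⟨g, hgL⟩).mp (orderOf_eq_one_iff.mp (Nat.Coprime.eq_one_of_dvd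
      ((((Fact.out : p.Prime).coprime_iff_not_dvd.mpr hnd).pow_left j).coprime_dvd_left h1) h2)))
  · exact hi.1 g hgL

/-- A block of `G` not killing the idempotent of a block of a normal subgroup covers it. -/
theorem covers_of_mul_ne_zero {N : Subgroup G} [N.Normal] [Fintype N] {B : Set (IrrCharacter G)}
    (hB : IsPBlock M B) {b : Set (IrrCharacter N)} (hb : IsPBlock M b)
    (hne : topEl M B * subEl M N b ≠ 0) :
    ∃ χ ∈ B, ∃ θ ∈ b, classInner (fun n : N => (χ : G → ℂ) n) (θ : N → ℂ) ≠ 0 := by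
  classical
  obtain ⟨χ, hχ⟩ := nonempty_of_isPBlock hB
  obtain ⟨θ, hθ⟩ := BlocksCover.exists_constituent χ N
  set b' := blockOf M (θ : N → ℂ) with hb'
  have hb'b : IsPBlock M b' := isPBlock_blockOf M θ
  have hne' := topEl_mul_subEl_ne_zero hB hb'b hχ (self_mem_blockOf θ) hθ
  set e := topEl M B
  set f := subEl M N b
  set f' := subEl M N b'
  have he : IsBlockIdem ⊤ e := isBlockIdem_topEl hB
  have hf : IsBlockIdem N f := isBlockIdem_subEl hb
  have hf' : IsBlockIdem N f' := isBlockIdem_subEl hb'b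
  have hNn : (⊤ : Subgroup G) ≤ Subgroup.normalizer (N : Set G) :=
    (Subgroup.normalizer_eq_top_iff.mpr inferInstance).ge
  have hE' := mul_orbitSum_eq_self le_top hNn hf' he hne'
  have hef : orbitSum ⊤ f' * f ≠ 0 := by
    intro h
    apply hne
    rw [← hE', mul_assoc, (commute_of_isFixedBy hf.1.1 (he.1.2.mono le_top)).eq.symm, ← mul_assoc,
      h, zero_mul]
  obtain ⟨a, ha, hane⟩ : ∃ a ∈ conjOrbit ⊤ f', a * f ≠ 0 := by
    by_contra h
    simp only [not_exists, not_and, not_not] at h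
    exact hef (by rw [orbitSum, Finset.sum_mul]; exact Finset.sum_eq_zero h)
  have haf := (isBlockIdem_of_mem_conjOrbit hNn hf' ha).eq_of_mul_ne_zero hf hane
  obtain ⟨x, -, hx⟩ := mem_conjOrbit.mp (haf ▸ ha)
  have hmap : N.map (MulAut.conj x).toMonoidHom = N :=
    map_conj_eq_self_of_mem_normalizer (hNn (Subgroup.mem_top x))
  have hx' : subEl M N (mapBlock (conjIso N N x hmap) b') = f :=
    (subEl_mapBlock_conj x hmap b').trans hx
  have heq := subEl_injective (isPBlock_mapBlock _ hb'b) hb hx'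
  refine ⟨χ, hχ, CfsgLib.Chars.irrEquiv (conjIso N N x hmap) θ,
    heq ▸ Set.mem_image_of_mem _ (self_mem_blockOf θ), ?_⟩
  refine ne_of_eq_of_ne ?_ hθ
  rw [classInner, classInner]
  congr 1
  refine (Fintype.sum_equiv (conjIso N N x hmap).toEquiv _ _ fun n => ?_).symm
  simp only [CfsgLib.Chars.irrEquiv_apply, MulEquiv.toEquiv_eq_coe, EquivLike.coe_coe,
    MulEquiv.symm_apply_apply, coe_conjIso]
  rw [(isClassFunction_of_isCharacter (isCharacter_of_isIrrCharacter χ.2)) _ x]

end translate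

end CfsgLib.Blocks
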