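import Cfsg.Agent.Blocks.Defect.Covered
import Cfsg.Agent.Blocks.Defect.NormalizedSupport

/-!
# Stable defect classes and stable members of orbits

For a block idempotent of `K` fixed by a `p`-subgroup `R` normalizing `K` some class seen by the
block in its support is stable under `R`, and a `p`-subgroup keeping an orbit sum under the Brauer
map fixes a member of the orbit kept by that map.
-/

set_option autoImplicit false
open scoped MonoidAlgebra
open MonoidAlgebra (single)

namespace CfsgLib.Blocks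

variable {k : Type*} [Field k] {G : Type*} [Group G] [Finite G] {p : ℕ} [Fact p.Prime] [CharP k p]

theorem classSumIn_eq_of_mem {H : Subgroup G} {x y : G} (h : ∃ t ∈ H, t * x * t⁻¹ = y) :
    classSumIn k H y = classSumIn k H x := by
  obtain ⟨t, ht, rfl⟩ := h
  refine MonoidAlgebra.ext (Finsupp.ext fun g => ?_)
  rw [coeff_classSumIn, coeff_classSumIn]
  congr 1
  refine propext ⟨?_, ?_⟩
  · rintro ⟨s, hs, rfl⟩
    exact ⟨s * t, H.mul_mem hs ht, by group⟩
  · rintro ⟨s, hs, rfl⟩
    exact ⟨s * t⁻¹, H.mul_mem hs (H.inv_mem ht), by group⟩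

omit [Fact p.Prime] [CharP k p] in
theorem conjA_classSumIn {H : Subgroup G} {r : G} (hr : r ∈ Subgroup.normalizer (H : Set G))
    (g : G) : conjA r (classSumIn k H g) = classSumIn k H (r * g * r⁻¹) := by
  refine MonoidAlgebra.ext (Finsupp.ext fun y => ?_)
  rw [coeff_conjA, coeff_classSumIn, coeff_classSumIn]
  congr 1
  refine propext ⟨?_, ?_⟩
  · rintro ⟨h, hh, he⟩
    refine ⟨r * h * r⁻¹, (Subgroup.mem_normalizer_iff.mp hr h).mp hh, ?_⟩
    calc r * h * r⁻¹ * (r * g * r⁻¹) * (r * h * r⁻¹)⁻¹ = r * (h * g * h⁻¹) * r⁻¹ := by group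
      _ = y := by rw [he]; group
  · rintro ⟨h, hh, rfl⟩
    refine ⟨r⁻¹ * h * r, ?_, by group⟩
    have := (Subgroup.mem_normalizer_iff.mp (Subgroup.inv_mem _ hr) h).mp hh
    simpa using this

/-- The scalar by which an element of the centre acts on a block is unique. -/
theorem IsBlockIdem.scalar_unique {H : Subgroup G} {e z : k[G]} (he : IsBlockIdem H e)
    (hz : z ∈ centerIn k H) {c d : k} (h1 : ¬ Sees e (z - c • 1)) (h2 : ¬ Sees e (z - d • 1)) :
    c = d := by
  by_contra hne
  have hmem : ∀ a : k, z - a • 1 ∈ centerIn k H := fun a =>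
    sub_mem hz (Subalgebra.smul_mem _ (one_mem _) a)
  have h3 := he.not_sees_add (hmem c) (neg_mem (hmem d)) h1 (by
    rw [Sees, not_not, neg_mul, isNilpotent_neg_iff]; exact not_not.mp h2)
  rw [show z - c • (1 : k[G]) + -(z - d • 1) = (d - c) • 1 by rw [sub_smul]; abel] at h3
  have h4 := not_sees_smul (d - c)⁻¹ h3
  rw [inv_smul_smul₀ (sub_ne_zero.mpr (Ne.symm hne))] at h4
  exact h4 (sees_one he)

/-- A block fixed by a `p`-group has a class in its support, seen by it and stable under the
group. -/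
theorem IsBlockIdem.exists_stable_class [IsAlgClosed k] {K R : Subgroup G} {f : k[G]}
    (hf : IsBlockIdem K f) (hR : IsPGroup p R) (hRK : R ≤ Subgroup.normalizer (K : Set G))
    (hfix : IsFixedBy f R) :
    ∃ g ∈ K, f.coeff g ≠ 0 ∧ Sees f (classSumIn k K g) ∧
      ∀ r ∈ R, ∃ c ∈ K, c * r ∈ Subgroup.centralizer ({g} : Set G) := by
  classical
  haveI := Fintype.ofFinite G
  by_contra hcon
  simp only [not_exists, not_and, not_forall, exists_prop] at hcon
  set S : Finset k[G] := (Finset.univ.filter fun g : G => f.coeff g ≠ 0).image (classSumIn k K)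
    with hS
  have hrep : ∀ c : S, ∃ g : G, f.coeff g ≠ 0 ∧ classSumIn k K g = c := fun c => by
    obtain ⟨g, hg, hgc⟩ := Finset.mem_image.mp c.2
    exact ⟨g, (Finset.mem_filter.mp hg).2, hgc⟩
  choose rep hrep0 hrepc using hrep
  have hmem : ∀ c : S, rep c ∈ K := fun c => by_contra fun h => hrep0 c (hf.1.1 _ h)
  have hclass : ∀ g y : G, (classSumIn k K g).coeff y ≠ 0 →
      classSumIn k K y = classSumIn k K g ∧ f.coeff y = f.coeff g := by
    intro g y hy
    rw [coeff_classSumIn] at hy
    split_ifs at hy with h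
    · refine ⟨classSumIn_eq_of_mem h, ?_⟩
      obtain ⟨t, ht, rfl⟩ := h
      exact hf.1.2 t ht g
    · exact absurd rfl hy
  have hsum : ∑ c : S, f.coeff (rep c) • (c : k[G]) = f := by
    refine MonoidAlgebra.ext (Finsupp.ext fun y => ?_)
    rw [MonoidAlgebra.coeff_sum, Finsupp.finsetSum_apply]
    simp only [MonoidAlgebra.coeff_smul_apply, smul_eq_mul]
    by_cases hy : f.coeff y = 0
    · rw [hy]
      refine Finset.sum_eq_zero fun c _ => ?_
      by_cases h : (c : k[G]).coeff y = 0
      · rw [h, mul_zero]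
      · rw [← hrepc c] at h
        exact absurd ((hclass _ _ h).2 ▸ hy) (hrep0 c)
    · have hyS : classSumIn k K y ∈ S :=
        Finset.mem_image.mpr ⟨y, Finset.mem_filter.mpr ⟨Finset.mem_univ _, hy⟩, rfl⟩
      rw [Finset.sum_eq_single (⟨_, hyS⟩ : S)]
      · have h1 : (classSumIn k K (rep ⟨_, hyS⟩)).coeff y = 1 := by
          rw [hrepc]; exact coeff_classSumIn_self K y
        rw [coeff_classSumIn_self, mul_one,
          (hclass _ y (by rw [h1]; exact one_ne_zero)).2]
      · intro c _ hne
        by_cases h : (c : k[G]).coeff y = 0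
        · rw [h, mul_zero]
        · rw [← hrepc c] at h
          exact absurd (Subtype.ext ((hrepc c).symm.trans (hclass _ _ h).1.symm)) hne
      · exact fun h => absurd (Finset.mem_univ _) h
  have hscal : ∀ c : S, ∃ a : k, ¬ Sees f ((c : k[G]) - a • 1) := fun c =>
    hf.exists_scalar (hrepc c ▸ classSumIn_mem_centerIn (hmem c))
  choose lam hlam using hscal
  have hstab : ∀ (r : R) (c : S), Blocks.conjA (r : G) (c : k[G]) ∈ S := by
    intro r c
    refine Finset.mem_image.mpr ⟨(r : G) * rep c * (r : G)⁻¹,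
      Finset.mem_filter.mpr ⟨Finset.mem_univ _, ?_⟩, ?_⟩
    · rw [hfix r r.2]; exact hrep0 c
    · rw [← conjA_classSumIn (hRK r.2), hrepc]
  letI : MulAction R S :=
    { smul := fun r c => ⟨_, hstab r c⟩
      one_smul := fun c => Subtype.ext (conjA_one_left _)
      mul_smul := fun r r' c => Subtype.ext (conjA_conjA (r : G) r' _).symm }
  have hsmul : ∀ (r : R) (c : S), ((r • c : S) : k[G]) = Blocks.conjA (r : G) (c : k[G]) := fun _ _ => rfl
  have hcoef : ∀ (r : R) (c : S), f.coeff (rep (r • c)) = f.coeff (rep c) := by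
    intro r c
    have h1 : (classSumIn k K ((r : G) * rep c * (r : G)⁻¹)).coeff (rep (r • c)) ≠ 0 := by
      rw [← conjA_classSumIn (hRK r.2), hrepc, ← hsmul, ← hrepc (r • c), coeff_classSumIn_self]
      exact one_ne_zero
    rw [(hclass _ _ h1).2, hfix r r.2]
  have hlaminv : ∀ (r : R) (c : S), lam (r • c) = lam c := by
    intro r c
    refine hf.scalar_unique (z := ((r • c : S) : k[G])) ?_ (hlam _) ?_
    · rw [← hrepc (r • c)]; exact classSumIn_mem_centerIn (hmem _)
    · have h1 : Blocks.conjA (r : G) ((c : k[G]) - lam c • 1) = ((r • c : S) : k[G]) - lam c • 1 := by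
        rw [map_sub, map_smul, map_one, hsmul]
      rw [← h1, ← isFixedBy_iff_conjA.mp hfix r r.2, sees_conjA_iff]
      exact hlam c
  have hzero : ∑ c : S, f.coeff (rep c) * lam c = 0 := by
    refine sum_eq_zero_of_invariant hR _ (fun r c => by rw [hcoef, hlaminv]) fun c hc => ?_
    by_cases hs : Sees f (c : k[G])
    · exfalso
      obtain ⟨r, hr, hbad⟩ := hcon (rep c) (hmem c) (hrep0 c) (by rw [hrepc]; exact hs)
      have h1 := congrArg (fun t : S => (t : k[G])) (hc ⟨r, hr⟩)
      simp only [hsmul] at h1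
      rw [← hrepc c, conjA_classSumIn (hRK hr)] at h1
      have h2 : (classSumIn k K (rep c)).coeff (r * rep c * r⁻¹) ≠ 0 := by
        rw [← h1, coeff_classSumIn_self]; exact one_ne_zero
      rw [coeff_classSumIn] at h2
      split_ifs at h2 with h
      · obtain ⟨t, ht, hte⟩ := h
        refine hbad t⁻¹ (K.inv_mem ht) (mem_centralizer_singleton'.mpr ?_)
        calc t⁻¹ * r * rep c = t⁻¹ * (r * rep c * r⁻¹) * r := by group
          _ = rep c * (t⁻¹ * r) := by rw [← hte]; group
      · exact h2 rfl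
    · rw [hf.scalar_unique (c := lam c) (d := 0) (hrepc c ▸ classSumIn_mem_centerIn (hmem c))
        (hlam c) (by rw [zero_smul, sub_zero]; exact hs), mul_zero]
  have h1 : ¬ Sees f (f - (∑ c : S, f.coeff (rep c) * lam c) • 1) := by
    have heq : f - (∑ c : S, f.coeff (rep c) * lam c) • 1 =
        ∑ c : S, f.coeff (rep c) • ((c : k[G]) - lam c • 1) := by
      rw [Finset.sum_congr rfl fun c _ => smul_sub (f.coeff (rep c)) (c : k[G]) (lam c • 1),
        Finset.sum_sub_distrib, hsum, Finset.sum_smul]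
      simp only [mul_smul]
    rw [heq]
    intro hs
    obtain ⟨c, -, hc⟩ := hf.exists_sees_of_sum (fun c _ => Subalgebra.smul_mem _
      (sub_mem (hrepc c ▸ classSumIn_mem_centerIn (hmem c))
        (Subalgebra.smul_mem _ (one_mem _) _)) _) hs
    exact not_sees_smul _ (hlam c) hc
  rw [hzero, zero_smul, sub_zero] at h1
  exact h1 (sees_self hf)

/-- A `p`-subgroup of `H` keeping the orbit sum fixes a member of the orbit which it keeps. -/
theorem exists_fixed_member {H Q : Subgroup G} {f : k[G]} (hQ : IsPGroup p Q) (hQH : Q ≤ H)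
    (hne : brTrunc Q (orbitSum H f) ≠ 0) :
    ∃ f' ∈ conjOrbit H f, IsFixedBy f' Q ∧ brTrunc Q f' ≠ 0 := by
  classical
  by_contra hcon
  simp only [not_exists, not_and, not_not] at hcon
  apply hne
  have hstab : ∀ (u : Q) (a : {a // a ∈ conjOrbit H f}),
      conjA (u : G) (a : k[G]) ∈ conjOrbit H f := by
    intro u a
    obtain ⟨h, hh, he⟩ := mem_conjOrbit.mp a.2
    exact mem_conjOrbit.mpr ⟨(u : G) * h, H.mul_mem (hQH u.2) hh, by rw [← conjA_conjA, he]⟩
  letI : MulAction Q {a // a ∈ conjOrbit H f} :=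
    { smul := fun u a => ⟨_, hstab u a⟩
      one_smul := fun a => Subtype.ext (conjA_one_left _)
      mul_smul := fun u v a => Subtype.ext (conjA_conjA (u : G) v _).symm }
  refine MonoidAlgebra.ext (Finsupp.ext fun g => ?_)
  by_cases hg : g ∈ Subgroup.centralizer (Q : Set G)
  · rw [coeff_brTrunc_of_mem _ hg, orbitSum, MonoidAlgebra.coeff_sum, Finsupp.finsetSum_apply,
      MonoidAlgebra.coeff_zero, Finsupp.zero_apply, ← Finset.sum_coe_sort]
    refine sum_eq_zero_of_invariant hQ (fun a : {a // a ∈ conjOrbit H f} => (a : k[G]).coeff g)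
      (fun u a => ?_) fun a ha => ?_
    · show (conjA (u : G) (a : k[G])).coeff g = _
      rw [coeff_conjA]
      congr 1
      rw [mul_assoc, ← Subgroup.mem_centralizer_iff.mp hg u u.2, inv_mul_cancel_left]
    · have hfixed : IsFixedBy (a : k[G]) Q := by
        rw [isFixedBy_iff_conjA]
        exact fun u hu => congrArg (fun t : {a // a ∈ conjOrbit H f} => (t : k[G])) (ha ⟨u, hu⟩)
      rw [← coeff_brTrunc_of_mem (Q := Q) _ hg, hcon a a.2 hfixed]
      simp
  · rw [coeff_brTrunc_of_not_mem _ hg]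
    simp

end CfsgLib.Blocks
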