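import Cfsg.Agent.Blocks.Orth.Subsection
import Cfsg.Agent.Blocks.DefectDegree
import Cfsg.Agent.Chars.Brauer.Defect
import Cfsg.Agent.Chars.Basic.Kernel

/-!
# Sums over the sections of a `p`-subgroup centralized by the `p`-regular elements
-/

set_option autoImplicit false
open Cfsg
open scoped ComplexConjugate

namespace CfsgLib.Blocks

universe u

variable {G : Type u} [Group G] [Fintype G] {p : ℕ}

open scoped Classical in
/-- The elements with `p`-part in `P`, as products. -/
theorem sum_sections_eq (hp : p.Prime) {P : Subgroup G} [Fintype P] (hP : IsPGroup p P)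
    (hc : ∀ u ∈ P, ∀ y : G, IsPRegular p y → Commute u y) {R : Type*} [AddCommMonoid R]
    (F : G → R) :
    ∑ g : G, (if ∃ u ∈ P, IsPPart p g u then F g else 0) =
      ∑ u : P, ∑ y ∈ Finset.univ.filter (fun y : G => IsPRegular p y), F ((u : G) * y) := by
  have : Fact p.Prime := ⟨hp⟩
  rw [← Finset.sum_filter, Finset.sum_sigma']
  have hpart : ∀ (u : P) (y : G), IsPRegular p y → IsPPart p ((u : G) * y) (u : G) := by
    intro u y hy
    refine ⟨y, rfl, hc u u.2 y hy, ?_, hy⟩
    obtain ⟨i, hi⟩ := IsPGroup.iff_orderOf.1 hP u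
    exact ⟨i, by rw [Subgroup.orderOf_coe, hi]⟩
  refine (Finset.sum_bij (fun (a : (_ : P) × G) _ => (a.1 : G) * a.2) ?_ ?_ ?_ ?_).symm
  · rintro ⟨u, y⟩ ha
    simp only [Finset.mem_sigma, Finset.mem_filter, Finset.mem_univ, true_and] at ha ⊢
    exact ⟨u, u.2, hpart u y ha⟩
  · rintro ⟨u, y⟩ ha ⟨v, z⟩ hb h
    simp only [Finset.mem_sigma, Finset.mem_filter, Finset.mem_univ, true_and] at ha hb
    have h' : (u : G) * y = (v : G) * z := h
    have h1 : (u : G) = v := isPPart_unique hp (hpart u y ha) (h' ▸ hpart v z hb)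
    obtain rfl : u = v := Subtype.ext h1
    obtain rfl : y = z := mul_left_cancel h'
    rfl
  · intro g hg
    simp only [Finset.mem_filter, Finset.mem_univ, true_and] at hg
    obtain ⟨u, hu, y, hy, hcy, hord, hyp⟩ := hg
    exact ⟨⟨⟨u, hu⟩, y⟩, Finset.mem_sigma.mpr ⟨Finset.mem_univ _,
      Finset.mem_filter.mpr ⟨Finset.mem_univ _, hyp⟩⟩, hy⟩
  · exact fun _ _ => rfl

/-- The twisted average of a character over a subgroup centralized by an element is integral. -/
theorem isIntegral_average_twist {χ : G → ℂ} (hχ : IsCharacter G χ) (P : Subgroup G) [Fintype P]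
    {η : P → ℂ} (hη : IsCharacter P η) (y : G) (hy : ∀ u ∈ P, y * u = u * y) :
    IsIntegral ℤ ((Nat.card P : ℂ)⁻¹ * ∑ u : P, χ ((u : G) * y) * conj (η u)) := by
  classical
  let Z : Subgroup G := Subgroup.zpowers y
  let π : P × Z →* G := MonoidHom.noncommCoprod P.subtype Z.subtype fun u z => by
    obtain ⟨i, hi⟩ := Subgroup.mem_zpowers_iff.mp z.2
    show Commute (u : G) (z : G)
    rw [← hi]
    exact ((show Commute (u : G) y from (hy u u.2).symm).zpow_right i)
  have hX : IsCharacter (P × Z) ((fun a => χ (π a)) *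
      fun a => conj (η (MonoidHom.fst P Z a))) :=
    Chars.isCharacter_mul (Chars.isCharacter_comp hχ π)
      (Chars.isCharacter_comp (Chars.isCharacter_conj hη) (MonoidHom.fst P Z))
  let P₁ : Subgroup (P × Z) := (MonoidHom.inl P Z).range
  haveI : Fintype P₁ := Fintype.ofFinite _
  set g₁ : P × Z := (1, ⟨y, Subgroup.mem_zpowers y⟩) with hg₁
  have h := isIntegral_average hX P₁ g₁ (by
    rintro _ ⟨u, rfl⟩
    exact Prod.ext (by simp [g₁]) (by simp [g₁]))
  let e : P ≃ P₁ := (MonoidHom.ofInjective (f := MonoidHom.inl P Z)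
    (fun a b hab => congrArg Prod.fst hab)).toEquiv
  rw [Nat.card_congr e, Fintype.sum_equiv e (fun u : P => χ ((u : G) * y) * conj (η u))
    (fun w : P₁ => ((fun a => χ (π a)) * fun a => conj (η (MonoidHom.fst P Z a))) (g₁ * w))
    fun u => ?_]
  · exact h
  · have he : (e u : P × Z) = (u, 1) := rfl
    rw [he]
    simp [g₁, π, MonoidHom.noncommCoprod_apply]

end CfsgLib.Blocks
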