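import Cfsg.Agent.Blocks.Defect.Knorr
import Cfsg.Agent.Blocks.Defect.Induced
import Cfsg.Agent.Blocks.Covering.Basic

/-!
# Covering of blocks of a normal subgroup, on idempotents

A block `B` of `G` covering the block `b` of a normal subgroup `N` has idempotent not killing that
of `b`; the orbit sum of a block of `N` fixes the idempotents of the blocks over it.
-/

set_option autoImplicit false
open scoped MonoidAlgebra
open MonoidAlgebra (single)
open Cfsg

namespace CfsgLib.Blocks

section orbit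

variable {k : Type*} [Field k] {G : Type*} [Group G] [Finite G]

open scoped Classical in
/-- The distinct conjugates of a block idempotent under a subgroup. -/
noncomputable def conjOrbit (H : Subgroup G) (f : k[G]) : Finset k[G] :=
  (Set.toFinite (Set.range fun h : H => conjA (h : G) f)).toFinset

theorem mem_conjOrbit {H : Subgroup G} {f f' : k[G]} :
    f' ∈ conjOrbit H f ↔ ∃ h ∈ H, conjA h f = f' := by
  simp [conjOrbit, Subtype.exists]

theorem self_mem_conjOrbit (H : Subgroup G) (f : k[G]) : f ∈ conjOrbit H f :=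
  mem_conjOrbit.mpr ⟨1, H.one_mem, conjA_one_left f⟩

/-- The sum of the distinct conjugates of `f` under `H`. -/
noncomputable def orbitSum (H : Subgroup G) (f : k[G]) : k[G] := ∑ f' ∈ conjOrbit H f, f'

variable {H K : Subgroup G} {f : k[G]}

theorem isBlockIdem_of_mem_conjOrbit (hHK : H ≤ Subgroup.normalizer (K : Set G))
    (hf : IsBlockIdem K f) {f' : k[G]} (h : f' ∈ conjOrbit H f) : IsBlockIdem K f' := by
  obtain ⟨x, hx, rfl⟩ := mem_conjOrbit.mp h
  have := hf.conjA x
  rwa [map_conj_eq_self_of_mem_normalizer (hHK hx)] at this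

theorem isFixedBy_orbitSum (H : Subgroup G) (f : k[G]) : IsFixedBy (orbitSum H f) H := by
  rw [isFixedBy_iff_conjA]
  intro s hs
  rw [orbitSum, map_sum]
  refine Finset.sum_nbij' (fun a => conjA s a) (fun a => conjA s⁻¹ a) ?_ ?_ ?_ ?_ (fun _ _ => rfl)
  · intro a ha
    obtain ⟨n, hn, rfl⟩ := mem_conjOrbit.mp ha
    exact mem_conjOrbit.mpr ⟨s * n, H.mul_mem hs hn, (conjA_conjA _ _ _).symm⟩
  · intro a ha
    obtain ⟨n, hn, rfl⟩ := mem_conjOrbit.mp ha
    exact mem_conjOrbit.mpr ⟨s⁻¹ * n, H.mul_mem (H.inv_mem hs) hn, (conjA_conjA _ _ _).symm⟩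
  · intro a _; rw [conjA_conjA, inv_mul_cancel, conjA_one_left]
  · intro a _; rw [conjA_conjA, mul_inv_cancel, conjA_one_left]

theorem orbitSum_mul_of_mem (hHK : H ≤ Subgroup.normalizer (K : Set G)) (hf : IsBlockIdem K f)
    {f' : k[G]} (h : f' ∈ conjOrbit H f) : orbitSum H f * f' = f' := by
  classical
  rw [orbitSum, Finset.sum_mul, Finset.sum_eq_single f']
  · exact (isBlockIdem_of_mem_conjOrbit hHK hf h).idem
  · exact fun a ha hne => (isBlockIdem_of_mem_conjOrbit hHK hf ha).orthogonal
      (isBlockIdem_of_mem_conjOrbit hHK hf h) hne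
  · exact fun hn => absurd h hn

theorem orbitSum_idem (hHK : H ≤ Subgroup.normalizer (K : Set G)) (hf : IsBlockIdem K f) :
    orbitSum H f * orbitSum H f = orbitSum H f := by
  conv_lhs => arg 2; rw [orbitSum]
  rw [Finset.mul_sum]
  exact Finset.sum_congr rfl fun a ha => orbitSum_mul_of_mem hHK hf ha

theorem isSupportedOn_orbitSum (hHK : H ≤ Subgroup.normalizer (K : Set G)) (hf : IsBlockIdem K f) :
    IsSupportedOn (orbitSum H f) K :=
  Finset.sum_induction _ (fun a => IsSupportedOn a K) (fun _ _ => IsSupportedOn.add)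
    IsSupportedOn.zero fun _ ha => (isBlockIdem_of_mem_conjOrbit hHK hf ha).1.1

theorem orbitSum_mem_centerIn {L : Subgroup G} (hKL : K ≤ L) (hLH : L ≤ H)
    (hHK : H ≤ Subgroup.normalizer (K : Set G)) (hf : IsBlockIdem K f) :
    orbitSum H f ∈ centerIn k L :=
  ⟨isSupportedOn_mono (isSupportedOn_orbitSum hHK hf) hKL, (isFixedBy_orbitSum H f).mono hLH⟩

/-- An idempotent of the centre of `H` not killing `f` is fixed by the orbit sum. -/
theorem mul_orbitSum_eq_self (hKH : K ≤ H) (hHK : H ≤ Subgroup.normalizer (K : Set G))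
    (hf : IsBlockIdem K f) {e : k[G]} (he : IsBlockIdem H e) (hef : e * f ≠ 0) :
    orbitSum H f * e = e := by
  have hE := orbitSum_mem_centerIn hKH le_rfl hHK hf
  refine (he.2.2.2 _ hE (orbitSum_idem hHK hf)).resolve_left fun h0 => hef ?_
  calc e * f = e * (orbitSum H f * f) := by rw [orbitSum_mul_of_mem hHK hf (self_mem_conjOrbit H f)]
    _ = orbitSum H f * e * f := by rw [← mul_assoc, (commute_centerIn he.1 hE).eq]
    _ = 0 := by rw [h0, zero_mul]

variable {p : ℕ} [Fact p.Prime] [CharP k p]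

/-- Knörr: the defect groups of a block and of a block of a normal subgroup under it. -/
theorem exists_defectGroup_inf_eq {N : Subgroup G} [N.Normal] {e f : k[G]} {Q : Subgroup G}
    (he : IsBlockIdem ⊤ e) (hf : IsBlockIdem N f) (hQ : IsDefectGroupIdem p N f Q)
    (hef : e * f ≠ 0) : ∃ P, IsDefectGroupIdem p ⊤ e P ∧ P ⊓ N = Q := by
  have hQe := brTrunc_ne_zero_of_covers hf hQ.2.1 hQ.1 hQ.2.2.1 he.1 he.idem hef
  obtain ⟨D, hD⟩ := he.exists_defectGroup p
  obtain ⟨x, hx, hle⟩ := hD.2.2.2 Q le_top hQ.2.1 hQe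
  set P := D.map (MulAut.conj x⁻¹).toMonoidHom with hP
  have hPD : IsDefectGroupIdem p ⊤ e P := hD.map_conj he.1 (Subgroup.mem_top _)
  have hQP : Q ≤ P := by
    have h := Subgroup.map_mono (f := (MulAut.conj x⁻¹).toMonoidHom) hle
    rwa [map_conj_map_conj, inv_mul_cancel, map_conj_one] at h
  refine ⟨P, hPD, (Subgroup.eq_of_le_of_card_ge (le_inf hQP hQ.1) ?_).symm⟩
  have hNn : (⊤ : Subgroup G) ≤ Subgroup.normalizer (N : Set G) :=
    (Subgroup.normalizer_eq_top_iff.mpr inferInstance).ge
  have hEe := mul_orbitSum_eq_self le_top hNn hf he hef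
  have hPE : brTrunc P (orbitSum ⊤ f) ≠ 0 := by
    intro h0
    apply hPD.2.2.1
    rw [← hEe, brTrunc_mul hPD.2.1 ((isFixedBy_orbitSum ⊤ f).mono le_top) (he.1.2.mono le_top), h0,
      zero_mul]
  obtain ⟨f', hf', hne⟩ : ∃ f' ∈ conjOrbit ⊤ f, brTrunc P f' ≠ 0 := by
    by_contra h
    simp only [not_exists, not_and, not_not] at h
    exact hPE (by rw [orbitSum, map_sum]; exact Finset.sum_eq_zero h)
  obtain ⟨y, -, rfl⟩ := mem_conjOrbit.mp hf'
  set R := P ⊓ N with hR
  have hne' : brTrunc R (conjA y f) ≠ 0 := fun h0 => hne (by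
    rw [← brTrunc_brTrunc (inf_le_left : R ≤ P), h0, map_zero])
  have hne'' : brTrunc (R.map (MulAut.conj y⁻¹).toMonoidHom) f ≠ 0 := by
    intro h0
    apply hne'
    have h := conjA_brTrunc y (R.map (MulAut.conj y⁻¹).toMonoidHom) f
    rw [map_conj_map_conj, mul_inv_cancel, map_conj_one, h0, map_zero] at h
    exact h.symm
  obtain ⟨z, -, hz⟩ := hQ.2.2.2 _ (by
    rintro _ ⟨r, hr, rfl⟩
    exact (inferInstance : N.Normal).conj_mem r hr.2 y⁻¹) ((hPD.2.1.to_le inf_le_left).map _) hne''
  have hc := Subgroup.card_le_of_le hz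
  rwa [card_map_conj, card_map_conj] at hc

end orbit

section translate

variable {M : Ideal AlgInt} [hM : M.IsMaximal] {G : Type*} [Group G] [Fintype G]

/-- A block covering a block of a normal subgroup does not kill its idempotent. -/
theorem topEl_mul_subEl_ne_zero {N : Subgroup G} [N.Normal] [Fintype N]
    {B : Set (IrrCharacter G)} (hB : IsPBlock M B) {b : Set (IrrCharacter N)} (hb : IsPBlock M b)
    {χ : IrrCharacter G} (hχ : χ ∈ B) {θ : IrrCharacter N} (hθ : θ ∈ b)
    (hcov : classInner (fun n : N => (χ : G → ℂ) n) (θ : N → ℂ) ≠ 0) :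
    topEl M B * subEl M N b ≠ 0 := by
  classical
  set e := topEl M B with he'
  set f := subEl M N b with hf'
  have he : IsBlockIdem ⊤ e := isBlockIdem_topEl hB
  have hf : IsBlockIdem N f := isBlockIdem_subEl hb
  have hNn : (⊤ : Subgroup G) ≤ Subgroup.normalizer (N : Set G) :=
    (Subgroup.normalizer_eq_top_iff.mpr inferInstance).ge
  have hclass : ∀ g ∈ N, classSumIn (kres M) ⊤ g ∈ centerIn (kres M) N ∧
      ¬ Sees f (classSumIn (kres M) ⊤ g - redC M (centralChar (χ : G → ℂ) g) • 1) := by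
    intro g hg
    let a : N → ℂ := fun n => if IsConj g (n : G) then 1 else 0
    have ha : IsCentralElt (ofFun a) := fun n s => by
      show a (s * n * s⁻¹) = a n
      simp only [a]
      refine if_congr ⟨fun hh => hh.trans ?_, fun hh => hh.trans ?_⟩ rfl rfl
      · exact isConj_iff.mpr ⟨(s : G)⁻¹, by simp [mul_assoc]⟩
      · exact isConj_iff.mpr ⟨(s : G), by simp⟩
    have hloc : IsLocalElt M (ofFun a) := fun n => by
      show MemLocalRing M (a n)
      simp only [a]
      split_ifs
      · exact (localRing M).one_mem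
      · exact (localRing M).zero_mem
    set x : centerK M N := centerRed M N ⟨ofFun a, ha, hloc⟩ with hx
    have hemb : emb (kres M) N.subtype (x : MonoidAlgebra (kres M) N) =
        classSumIn (kres M) ⊤ g := by
      refine MonoidAlgebra.ext (Finsupp.ext fun y => ?_)
      have hc : (∃ h ∈ (⊤ : Subgroup G), h * g * h⁻¹ = y) ↔ IsConj g y := by simp [isConj_iff]
      rw [coeff_classSumIn]
      by_cases hy : y ∈ N
      · have h1 := coeff_emb_apply (k := kres M) N.subtype_injective
          (x : MonoidAlgebra (kres M) N) ⟨y, hy⟩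
        rw [Subgroup.coe_subtype] at h1
        rw [h1, hx, coe_centerRed, coeff_reduceHom, ← redC_of_mem]
        show redC M (a ⟨y, hy⟩) = _
        by_cases hgy : IsConj g y
        · rw [if_pos (hc.mpr hgy)]; simp only [a, hgy, if_true, redC_one]
        · rw [if_neg (mt hc.mp hgy)]; simp only [a, hgy, if_false, redC_zero]
      · rw [coeff_emb_of_not_mem _ (by rwa [Subgroup.range_subtype]), if_neg]
        rintro ⟨h, -, rfl⟩
        exact hy ((inferInstance : N.Normal).conj_mem g hg h)
    have hval : centralChar (χ : G → ℂ) g = omega (θ : N → ℂ) (ofFun a) := by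
      rw [(BlocksCover.constituent_iff_centralChar χ θ).mp hcov ⟨g, hg⟩,
        BlocksCover.inducedCentralChar_eq_sum, omega_ofFun]
      refine Finset.sum_congr rfl fun n _ => ?_
      simp only [a]
      split_ifs <;> simp
    rw [← hemb]
    refine ⟨?_, (not_sees_sub_smul_one_iff N.subtype_injective hb hθ x _).mpr ?_⟩
    · have := (emb_mem_centerIn_iff (k := kres M) N.subtype_injective
        (x : MonoidAlgebra (kres M) N)).mpr x.2
      rwa [Subgroup.range_subtype] at this
    · rw [hx, omegaBar_centerRed, redC_of_mem (memLocalRing_centralChar χ g)]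
      congr 1
      exact Subtype.ext hval.symm
  set E := orbitSum ⊤ f with hE
  have hEC : E ∈ centerIn (kres M) ⊤ := orbitSum_mem_centerIn le_top le_rfl hNn hf
  have key : ∀ z ∈ Submodule.span (kres M)
      {a | ∃ x ∈ (⊤ : Subgroup G), E.coeff x ≠ 0 ∧ a = classSumIn (kres M) ⊤ x},
      z ∈ centerIn (kres M) ⊤ ∧ z ∈ centerIn (kres M) N ∧
        ∃ c : kres M, ¬ Sees e (z - c • 1) ∧ ¬ Sees f (z - c • 1) := by
    intro z hz
    induction hz using Submodule.span_induction with
    | mem z hz =>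
      obtain ⟨g, -, hg0, rfl⟩ := hz
      have hg : g ∈ N := by_contra fun h => hg0 (isSupportedOn_orbitSum hNn hf g h)
      exact ⟨classSumIn_mem_centerIn (Subgroup.mem_top g), (hclass g hg).1, _,
        (not_sees_classSum_sub_iff hB hχ g _).mpr rfl, (hclass g hg).2⟩
    | zero =>
      refine ⟨zero_mem _, zero_mem _, 0, ?_, ?_⟩ <;>
        (rw [zero_smul, sub_zero]; exact not_sees_zero)
    | add z z' _ _ hz hz' =>
      obtain ⟨h1, h2, c, h3, h4⟩ := hz
      obtain ⟨h1', h2', c', h3', h4'⟩ := hz'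
      refine ⟨add_mem h1 h1', add_mem h2 h2', c + c', ?_, ?_⟩ <;> rw [add_smul, add_sub_add_comm]
      · exact he.not_sees_add (sub_mem h1 (Subalgebra.smul_mem _ (one_mem _) c))
          (sub_mem h1' (Subalgebra.smul_mem _ (one_mem _) c')) h3 h3'
      · exact hf.not_sees_add (sub_mem h2 (Subalgebra.smul_mem _ (one_mem _) c))
          (sub_mem h2' (Subalgebra.smul_mem _ (one_mem _) c')) h4 h4'
    | smul r z _ hz =>
      obtain ⟨h1, h2, c, h3, h4⟩ := hz
      refine ⟨Subalgebra.smul_mem _ h1 r, Subalgebra.smul_mem _ h2 r, r * c, ?_, ?_⟩ <;>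
        rw [mul_smul, ← smul_sub]
      · exact not_sees_smul r h3
      · exact not_sees_smul r h4
  obtain ⟨-, -, c, h1, h2⟩ := key E (mem_span_classSumIn hEC)
  have hc : c = 1 := by
    by_contra hne
    apply h2
    intro hn
    have h3 : (E - c • 1) * f = (1 - c) • f := by
      rw [sub_mul, hE, orbitSum_mul_of_mem hNn hf (self_mem_conjOrbit _ _), smul_mul_assoc, one_mul,
        sub_smul, one_smul]
    rw [h3] at hn
    have h4 := hn.smul (1 - c)⁻¹
    rw [inv_smul_smul₀ (sub_ne_zero.mpr (Ne.symm hne))] at h4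
    exact hf.ne_zero (idempotent_eq_zero_of_isNilpotent hf.idem h4)
  subst hc
  rw [one_smul] at h1
  intro h0
  apply h1
  intro hn
  have hEe : E * e = 0 := by
    rw [hE, orbitSum, Finset.sum_mul]
    refine Finset.sum_eq_zero fun a ha => ?_
    obtain ⟨y, -, rfl⟩ := mem_conjOrbit.mp ha
    rw [← isFixedBy_iff_conjA.mp he.1.2 y (Subgroup.mem_top y), ← map_mul,
      show f * e = 0 by rw [(commute_of_isFixedBy hf.1.1 (he.1.2.mono le_top)).eq]; exact h0, map_zero]
  rw [sub_mul, hEe, one_mul, zero_sub, isNilpotent_neg_iff] at hn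
  exact he.ne_zero (idempotent_eq_zero_of_isNilpotent he.idem hn)

end translate

end CfsgLib.Blocks
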