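import Cfsg.Agent.Blocks.Defect.DefectGroups
import Mathlib.Combinatorics.Pigeonhole

/-!
# Defect groups of blocks and of the blocks of a normal subgroup under them (Knörr)

If a central idempotent `e` of `k G` does not kill the block `f` of the normal subgroup `N`, then
the Brauer map at a `p`-subgroup of `N` which keeps `f` keeps `e`.
-/

set_option autoImplicit false
open scoped MonoidAlgebra
open MonoidAlgebra (single)

namespace CfsgLib.Blocks

variable {k : Type*} [Field k] {G : Type*} [Group G] [Finite G]

section coset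

variable {N : Subgroup G} [N.Normal]

open scoped Classical in
/-- The component of an element of the group algebra on a coset of a normal subgroup. -/
noncomputable def cosetPart (N : Subgroup G) (q : G ⧸ N) (a : k[G]) : k[G] :=
  MonoidAlgebra.ofCoeff (Finsupp.equivFunOnFinite.symm
    fun g => if (QuotientGroup.mk g : G ⧸ N) = q then a.coeff g else 0)

open scoped Classical in
omit [N.Normal] in
theorem coeff_cosetPart (q : G ⧸ N) (a : k[G]) (g : G) :
    (cosetPart N q a).coeff g = if (QuotientGroup.mk g : G ⧸ N) = q then a.coeff g else 0 := rfl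

/-- An element supported on a single coset. -/
def IsOnCoset (q : G ⧸ N) (a : k[G]) : Prop :=
  ∀ g : G, (QuotientGroup.mk g : G ⧸ N) ≠ q → a.coeff g = 0

omit [N.Normal] in
theorem isOnCoset_cosetPart (q : G ⧸ N) (a : k[G]) : IsOnCoset q (cosetPart N q a) :=
  fun g hg => by rw [coeff_cosetPart, if_neg hg]

omit [N.Normal] in
theorem sum_cosetPart [Fintype (G ⧸ N)] (a : k[G]) : ∑ q : G ⧸ N, cosetPart N q a = a := by
  classical
  refine MonoidAlgebra.ext (Finsupp.ext fun g => ?_)
  simp [MonoidAlgebra.coeff_sum, coeff_cosetPart]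

omit [Finite G] in
theorem isOnCoset_one : IsOnCoset (1 : G ⧸ N) (1 : k[G]) := by
  intro g hg
  refine IsSupportedOn.one (H := N) g fun h => hg ?_
  exact (QuotientGroup.eq_one_iff g).mpr h

omit [Finite G] in
theorem isOnCoset_one_iff {a : k[G]} : IsOnCoset (1 : G ⧸ N) a ↔ IsSupportedOn a N :=
  ⟨fun h g hg => h g fun he => hg ((QuotientGroup.eq_one_iff g).mp he),
    fun h g hg => h g fun he => hg ((QuotientGroup.eq_one_iff g).mpr he)⟩

theorem IsOnCoset.mul {q r : G ⧸ N} {a b : k[G]} (ha : IsOnCoset q a) (hb : IsOnCoset r b) :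
    IsOnCoset (q * r) (a * b) := by
  classical
  haveI := Fintype.ofFinite G
  intro g hg
  rw [MonoidAlgebra.coeff_mul_apply_left, Finsupp.sum_fintype _ _ (fun _ => zero_mul _)]
  refine Finset.sum_eq_zero fun x _ => ?_
  by_cases hx : (QuotientGroup.mk x : G ⧸ N) = q
  · rw [hb (x⁻¹ * g) fun h => hg ?_, mul_zero]
    rw [← h, ← hx, QuotientGroup.mk_mul, QuotientGroup.mk_inv, mul_inv_cancel_left]
  · rw [ha x hx, zero_mul]

theorem IsFixedBy.cosetPart {a : k[G]} (h : IsFixedBy a N) (q : G ⧸ N) :
    IsFixedBy (Blocks.cosetPart N q a) N := by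
  intro s hs g
  rw [coeff_cosetPart, coeff_cosetPart, h s hs g]
  congr 1
  have h1 : (QuotientGroup.mk s : G ⧸ N) = 1 := (QuotientGroup.eq_one_iff s).mpr hs
  rw [QuotientGroup.mk_mul, QuotientGroup.mk_mul, QuotientGroup.mk_inv, h1]
  simp

omit [N.Normal] in
theorem brTrunc_cosetPart (Q : Subgroup G) (q : G ⧸ N) (a : k[G]) :
    brTrunc Q (cosetPart N q a) = cosetPart N q (brTrunc Q a) := by
  refine MonoidAlgebra.ext (Finsupp.ext fun g => ?_)
  by_cases hg : g ∈ Subgroup.centralizer (Q : Set G)
  · rw [coeff_brTrunc_of_mem _ hg, coeff_cosetPart, coeff_cosetPart, coeff_brTrunc_of_mem _ hg]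
  · rw [coeff_brTrunc_of_not_mem _ hg, coeff_cosetPart, coeff_brTrunc_of_not_mem _ hg, ite_self]

omit [N.Normal] in
theorem cosetPart_zero (q : G ⧸ N) : cosetPart N q (0 : k[G]) = 0 := by
  refine MonoidAlgebra.ext (Finsupp.ext fun g => ?_)
  simp [coeff_cosetPart]

/-- Multiplying on the right by an element supported on the normal subgroup respects cosets. -/
theorem cosetPart_mul_of_isSupportedOn (q : G ⧸ N) (a : k[G]) {b : k[G]}
    (hb : IsSupportedOn b N) : cosetPart N q (a * b) = cosetPart N q a * b := by
  classical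
  haveI := Fintype.ofFinite (G ⧸ N)
  conv_lhs => rw [← sum_cosetPart (N := N) a, Finset.sum_mul]
  refine MonoidAlgebra.ext (Finsupp.ext fun g => ?_)
  have hpart : ∀ r : G ⧸ N, IsOnCoset r (cosetPart N r a * b) := fun r => by
    have := (isOnCoset_cosetPart r a).mul (isOnCoset_one_iff.mpr hb)
    rwa [mul_one] at this
  rw [coeff_cosetPart, MonoidAlgebra.coeff_sum, Finsupp.finset_sum_apply]
  split_ifs with hg
  · rw [Finset.sum_eq_single q]
    · exact fun r _ hr => hpart r g (by rw [hg]; exact Ne.symm hr)
    · exact fun h => absurd (Finset.mem_univ q) h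
  · exact (hpart q g hg).symm

end coset

/-- A product of more commuting nilpotent elements than the dimension is zero. -/
theorem list_prod_eq_zero_of_nilpotent {A : Type*} [Ring A] [Algebra k A] [FiniteDimensional k A]
    (l : List A) (hn : ∀ a ∈ l, IsNilpotent a) (hc : ∀ a ∈ l, ∀ b ∈ l, Commute a b)
    (hlen : Module.finrank k A < l.length) : l.prod = 0 := by
  suffices key : ∀ m : List A, (∀ a ∈ m, a ∈ l) → m.prod = 0 ∨
      Module.finrank k (LinearMap.range (LinearMap.mulLeft k m.prod)) + m.length ≤
        Module.finrank k A by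
    rcases key l fun a ha => ha with h | h
    · exact h
    · omega
  intro m
  induction m with
  | nil =>
    intro _
    right
    simp only [List.length_nil, add_zero]
    exact Submodule.finrank_le _
  | cons a m ih =>
    intro hm
    rw [List.prod_cons]
    rcases ih fun b hb => hm b (List.mem_cons_of_mem a hb) with h | h
    · exact Or.inl (by rw [h, mul_zero])
    by_cases h0 : m.prod = 0
    · exact Or.inl (by rw [h0, mul_zero])
    right
    have hcomm : Commute a m.prod := Commute.list_prod_right m a fun b hb =>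
      hc a (hm a List.mem_cons_self) b (hm b (List.mem_cons_of_mem a hb))
    have hle : LinearMap.range (LinearMap.mulLeft k (a * m.prod)) ≤
        LinearMap.range (LinearMap.mulLeft k m.prod) := by
      rintro _ ⟨v, rfl⟩
      exact ⟨a * v, by simp only [LinearMap.mulLeft_apply]; rw [← mul_assoc, ← hcomm.eq]⟩
    have hlt : LinearMap.range (LinearMap.mulLeft k (a * m.prod)) <
        LinearMap.range (LinearMap.mulLeft k m.prod) := by
      refine lt_of_le_of_ne hle fun he => h0 ?_
      obtain ⟨n, hn⟩ := hn a (hm a List.mem_cons_self)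
      have hiter : ∀ i, ∃ v, a ^ i * m.prod * v = m.prod := by
        intro i
        induction i with
        | zero => exact ⟨1, by simp⟩
        | succ i ih =>
          obtain ⟨v, hv⟩ := ih
          have : m.prod * v ∈ LinearMap.range (LinearMap.mulLeft k (a * m.prod)) := by
            rw [he]; exact ⟨v, rfl⟩
          obtain ⟨w, hw⟩ := this
          simp only [LinearMap.mulLeft_apply] at hw
          refine ⟨w, ?_⟩
          rw [pow_succ, mul_assoc (a ^ i) a, mul_assoc, hw, ← mul_assoc, hv]
      obtain ⟨v, hv⟩ := hiter n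
      rw [← hv, hn, zero_mul, zero_mul]
    have := Submodule.finrank_lt_finrank_of_lt hlt
    rw [List.length_cons]
    omega

variable {p : ℕ} [Fact p.Prime] [CharP k p] {N : Subgroup G} [N.Normal]

/-- An element of the centre of a block killed by a Brauer map keeping the block is nilpotent. -/
theorem IsBlockIdem.isNilpotent_of_brTrunc_mul_eq_zero {H Q : Subgroup G} {f : k[G]}
    (hf : IsBlockIdem H f) (hQ : IsPGroup p Q) (hQH : Q ≤ H) (hQf : brTrunc Q f ≠ 0) {s : k[G]}
    (hs : s ∈ centerIn k H) (hsf : s * f = s) (hs0 : brTrunc Q s = 0) : IsNilpotent s := by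
  rcases hf.nilpotent_or_unit hs with h | ⟨w, hw, hwf⟩
  · rwa [hsf] at h
  · exfalso
    apply hQf
    rw [← hwf, mul_assoc, brTrunc_mul hQ (hs.2.mono hQH) ((hw.2.mul hf.1.2).mono hQH), hs0,
      zero_mul]

/-- The Brauer map at a `p`-subgroup of `N` keeping a block of `N` keeps every block over it. -/
theorem brTrunc_ne_zero_of_covers {Q : Subgroup G} {e f : k[G]} (hf : IsBlockIdem N f)
    (hQ : IsPGroup p Q) (hQN : Q ≤ N) (hQf : brTrunc Q f ≠ 0) (he : e ∈ centerIn k ⊤)
    (hee : e * e = e) (hef : e * f ≠ 0) : brTrunc Q e ≠ 0 := by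
  classical
  haveI := Fintype.ofFinite (G ⧸ N)
  intro h0
  apply hef
  set z := e * f with hz
  have hzN : IsFixedBy z N := (he.2.mono le_top).mul hf.1.2
  have hzf : z * f = z := by rw [hz, mul_assoc, hf.idem]
  have hef' : Commute e f := (commute_of_isFixedBy hf.1.1 (he.2.mono le_top)).symm
  have hzz : z * z = z := by
    rw [hz, mul_assoc, ← mul_assoc f, ← hef'.eq, mul_assoc e f f, hf.idem, ← mul_assoc, hee]
  have hz0 : brTrunc Q z = 0 := by
    rw [hz, brTrunc_mul hQ (he.2.mono le_top) (hf.1.2.mono hQN), h0, zero_mul]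
  set w : G ⧸ N → k[G] := fun q => cosetPart N q z with hw
  have hwfix : ∀ q, IsFixedBy (w q) N := fun q => hzN.cosetPart q
  have hwf : ∀ q, w q * f = w q := fun q => by
    rw [hw, ← cosetPart_mul_of_isSupportedOn q z hf.1.1, hzf]
  have hw0 : ∀ q, brTrunc Q (w q) = 0 := fun q => by
    rw [hw, brTrunc_cosetPart, hz0, cosetPart_zero]
  -- products of lists of components
  have hlist : ∀ l : List (G ⧸ N),
      IsOnCoset l.prod (l.map w).prod ∧ IsFixedBy (l.map w).prod N ∧
        (l ≠ [] → (l.map w).prod * f = (l.map w).prod ∧ brTrunc Q (l.map w).prod = 0) := by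
    intro l
    induction l with
    | nil => exact ⟨isOnCoset_one, IsFixedBy.one, fun h => absurd rfl h⟩
    | cons q l ih =>
      simp only [List.map_cons, List.prod_cons]
      refine ⟨(isOnCoset_cosetPart q z).mul ih.1, (hwfix q).mul ih.2.1, fun _ => ⟨?_, ?_⟩⟩
      · rcases eq_or_ne l [] with rfl | hl
        · simp only [List.map_nil, List.prod_nil, mul_one]; exact hwf q
        · rw [mul_assoc, (ih.2.2 hl).1]
      · rw [brTrunc_mul hQ ((hwfix q).mono hQN) (ih.2.1.mono hQN), hw0, zero_mul]
  set n := Module.finrank k k[G] with hn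
  set L := Fintype.card (G ⧸ N) * (n + 1) + 1 with hL
  have hlong : ∀ l : List (G ⧸ N), l.length = L → (l.map w).prod = 0 := by
    intro l hl
    obtain ⟨q, hq⟩ := Fintype.exists_lt_card_fiber_of_mul_lt_card
      (f := fun i : Fin (L + 1) => ((l.take i).prod)) (n := n + 1)
      (by rw [Fintype.card_fin]; omega)
    set S := Finset.univ.filter (fun i : Fin (L + 1) => (l.take i).prod = q) with hS
    obtain ⟨T, hTS, hT⟩ := Finset.exists_subset_card_eq (s := S) (n := n + 2) (by omega)
    set ι := T.orderEmbOfFin hT
    have hιq : ∀ j, (l.take (ι j)).prod = q := fun j =>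
      (Finset.mem_filter.mp (hTS (T.orderEmbOfFin_mem hT j))).2
    have hι : ∀ i j : Fin (n + 2), i < j → (ι i : ℕ) < ι j := fun i j h => ι.strictMono h
    let seg : Fin (n + 1) → k[G] := fun t =>
      (((l.take (ι t.succ)).drop (ι t.castSucc)).map w).prod
    have hsplit : ∀ t : Fin (n + 1),
        l.take (ι t.succ) = l.take (ι t.castSucc) ++ (l.take (ι t.succ)).drop (ι t.castSucc) := by
      intro t
      conv_lhs => rw [← List.take_append_drop (ι t.castSucc) (l.take (ι t.succ))]
      rw [List.take_take, min_eq_left (hι _ _ Fin.castSucc_lt_succ).le]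
    have hseg : ∀ t, seg t ∈ centerIn k N ∧ IsNilpotent (seg t) := by
      intro t
      have hdeg : ((l.take (ι t.succ)).drop (ι t.castSucc)).prod = 1 := by
        have h := congrArg List.prod (hsplit t)
        rw [List.prod_append, hιq, hιq] at h
        exact left_eq_mul.mp h
      have hne : (l.take (ι t.succ)).drop (ι t.castSucc) ≠ [] := by
        intro h
        have h' := congrArg List.length h
        have h1 := hι _ _ (Fin.castSucc_lt_succ (i := t))
        have h2 : (ι t.succ : ℕ) < L + 1 := (ι t.succ).2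
        simp only [List.length_drop, List.length_take, List.length_nil, hl] at h'
        omega
      obtain ⟨h1, h2, h3⟩ := hlist ((l.take (ι t.succ)).drop (ι t.castSucc))
      rw [hdeg] at h1
      refine ⟨⟨isOnCoset_one_iff.mp h1, h2⟩, ?_⟩
      exact hf.isNilpotent_of_brTrunc_mul_eq_zero hQ hQN hQf ⟨isOnCoset_one_iff.mp h1, h2⟩
        (h3 hne).1 (h3 hne).2
    have hpre : ∀ t : ℕ, ∀ ht : t ≤ n + 1,
        ((l.take (ι ⟨t, by omega⟩)).map w).prod =
          ((l.take (ι 0)).map w).prod * ((List.ofFn seg).take t).prod := by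
      intro t
      induction t with
      | zero => intro _; simp
      | succ t ih =>
        intro ht
        have h := congrArg (fun m => (m.map w).prod) (hsplit ⟨t, by omega⟩)
        simp only [Fin.succ_mk, Fin.castSucc_mk, List.map_append, List.prod_append] at h
        rw [h, ih (by omega), List.prod_take_succ _ t (by simp; omega), List.getElem_ofFn, ← mul_assoc]
        rfl
    have hzero : (List.ofFn seg).prod = 0 := by
      refine list_prod_eq_zero_of_nilpotent (k := k) _ ?_ ?_ (by simp [hn])
      · intro a ha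
        obtain ⟨t, rfl⟩ := List.mem_ofFn.mp ha
        exact (hseg t).2
      · intro a ha b hb
        obtain ⟨t, rfl⟩ := List.mem_ofFn.mp ha
        obtain ⟨u, rfl⟩ := List.mem_ofFn.mp hb
        exact commute_centerIn (hseg t).1 (hseg u).1
    have htop := hpre (n + 1) le_rfl
    rw [List.take_of_length_le (l := List.ofFn seg) (by simp), hzero, mul_zero] at htop
    rw [← List.take_append_drop (ι ⟨n + 1, by omega⟩) l, List.map_append, List.prod_append, htop,
      zero_mul]
  have hpow : ∀ m, z ^ m ∈ Submodule.span k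
      {a | ∃ l : List (G ⧸ N), l.length = m ∧ a = (l.map w).prod} := by
    intro m
    induction m with
    | zero => exact Submodule.subset_span ⟨[], rfl, by simp⟩
    | succ m ih =>
      rw [pow_succ']
      conv => arg 2; arg 1; rw [← sum_cosetPart (N := N) z]
      rw [Finset.sum_mul]
      refine Submodule.sum_mem _ fun q _ => ?_
      generalize z ^ m = y at ih ⊢
      induction ih using Submodule.span_induction with
      | mem x hx =>
        obtain ⟨l, hl, rfl⟩ := hx
        exact Submodule.subset_span ⟨q :: l, by simp [hl], by simp [hw]⟩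
      | zero => rw [mul_zero]; exact Submodule.zero_mem _
      | add x y _ _ hx hy => rw [mul_add]; exact Submodule.add_mem _ hx hy
      | smul r x _ hx => rw [mul_smul_comm]; exact Submodule.smul_mem _ r hx
  refine idempotent_eq_zero_of_isNilpotent hzz ⟨L, ?_⟩
  have hspan : Submodule.span k {a | ∃ l : List (G ⧸ N), l.length = L ∧ a = (l.map w).prod} ≤ ⊥ :=
    Submodule.span_le.mpr fun a ⟨l, hl, ha⟩ => (Submodule.mem_bot k).mpr (ha ▸ hlong l hl)
  exact (Submodule.mem_bot k).mp (hspan (hpow L))

end CfsgLib.Blocks
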