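import Cfsg.Agent.Blocks.HeightZero.InducedDefect
import Cfsg.Agent.Blocks.Defect.FixedSum
import Cfsg.Agent.Blocks.Defect.Lifts
import Cfsg.Agent.Chars.Basic.Kernel
import Cfsg.Agent.Eq.Def_Blocks

/-!
# Blocks of a quotient group inside a block of the group

The characters of `G ⧸ N` inflating into a block `B` form a union of blocks whose idempotent is the
sum of that of `B` over the cosets of `N`; their defect groups lie in the images of those of `B`.
-/

set_option autoImplicit false

namespace CfsgLib.Blocks.Quot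

open Cfsg CfsgLib.Blocks
open scoped ComplexConjugate

variable {G : Type*} [Group G] [Finite G] (N : Subgroup G) [N.Normal]

/-- The characters of the quotient inflating into `B`. -/
def below (B : Set (IrrCharacter G)) : Set (IrrCharacter (G ⧸ N)) :=
  {φ | CfsgLib.Chars.inflate N φ ∈ B}

variable {N}

theorem mem_below {B : Set (IrrCharacter G)} {φ : IrrCharacter (G ⧸ N)} :
    φ ∈ below N B ↔ CfsgLib.Chars.inflate N φ ∈ B := Iff.rfl

/-- The idempotent below is the sum over the cosets. -/
theorem blockCoeff_below [Fintype N] (B : Set (IrrCharacter G)) (g : G) :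
    blockCoeff (below N B) (g : G ⧸ N) = ∑ n : N, blockCoeff B (g * n) := by
  classical
  simp only [blockCoeff, ← Finset.mul_sum, finsum_mem_eq_finite_toFinset_sum _ B.toFinite,
    finsum_mem_eq_finite_toFinset_sum _ (below N B).toFinite]
  rw [Finset.sum_comm]
  have h0 : ∀ χ : IrrCharacter G, ∑ n : N, conj ((χ : G → ℂ) (g * n)) =
      if N ≤ CfsgLib.Chars.charKer (χ : G → ℂ) then (Nat.card N : ℂ) * conj ((χ : G → ℂ) g) else 0 := by
    intro χ
    split_ifs with h
    · have h1 : ∀ n : N, (χ : G → ℂ) (g * n) = (χ : G → ℂ) g := fun n => by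
        have h2 := CfsgLib.Chars.isClassFunction_coe χ ((n : G) * g) g
        rw [show g * ((n : G) * g) * g⁻¹ = g * n by group] at h2
        rw [h2, CfsgLib.Chars.mem_charKer.mp (h n.2) g]
      rw [Finset.sum_congr rfl fun n _ => by rw [h1 n], Finset.sum_const, Finset.card_univ,
        nsmul_eq_mul, Nat.card_eq_fintype_card]
    · rw [← map_sum, CfsgLib.Chars.sum_coset_eq_zero N χ h g, map_zero]
  have h1 : ∑ φ ∈ (below N B).toFinite.toFinset, (φ : G ⧸ N → ℂ) 1 * conj ((φ : G ⧸ N → ℂ) (g : G ⧸ N)) =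
      ∑ χ ∈ B.toFinite.toFinset.filter (fun χ : IrrCharacter G => N ≤ CfsgLib.Chars.charKer (χ : G → ℂ)),
        (χ : G → ℂ) 1 * conj ((χ : G → ℂ) g) := by
    refine Finset.sum_bij (fun φ _ => CfsgLib.Chars.inflate N φ) (fun φ hφ => ?_)
      (fun _ _ _ _ h => CfsgLib.Chars.inflate_injective N h) (fun χ hχ => ?_) (fun φ _ => ?_)
    · simp only [Finset.mem_filter, Set.Finite.mem_toFinset] at hφ ⊢
      exact ⟨hφ, CfsgLib.Chars.le_charKer_inflate N φ⟩
    · simp only [Finset.mem_filter, Set.Finite.mem_toFinset] at hχ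
      obtain ⟨φ, rfl⟩ := CfsgLib.Chars.exists_inflate_eq N χ hχ.2
      exact ⟨φ, (Set.Finite.mem_toFinset _).mpr hχ.1, rfl⟩
    · simp [CfsgLib.Chars.inflate_apply]
  simp only [← Finset.mul_sum, h0, mul_ite, mul_zero]
  rw [← Finset.sum_filter, h1, N.card_eq_card_quotient_mul_card_subgroup, Nat.cast_mul, mul_inv,
    mul_assoc]
  congr 1
  rw [Finset.mul_sum]
  refine Finset.sum_congr rfl fun χ _ => ?_
  have hN : (Nat.card N : ℂ) ≠ 0 := Nat.cast_ne_zero.mpr Nat.card_pos.ne'
  field_simp

variable {p : ℕ} [Fact p.Prime] {M : Ideal AlgInt} [M.IsMaximal] {B : Set (IrrCharacter G)}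

theorem memLocalRing_below (hB : IsPBlock M B) (x : G ⧸ N) :
    MemLocalRing M (blockCoeff (below N B) x) := by
  classical
  haveI : Fintype N := Fintype.ofFinite N
  obtain ⟨g, rfl⟩ := QuotientGroup.mk_surjective x
  rw [blockCoeff_below]
  exact Subring.sum_mem (localRing M) fun n _ => by
    haveI := Fintype.ofFinite G
    exact memLocalRing_blockCoeff hB _

theorem blockOf_subset_below (hB : IsPBlock M B) {φ : IrrCharacter (G ⧸ N)} (hφ : φ ∈ below N B) :
    blockOf M (φ : G ⧸ N → ℂ) ⊆ below N B := by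
  haveI := Fintype.ofFinite (G ⧸ N)
  exact blockOf_subset_of_local (memLocalRing_below hB) hφ

variable [CharP (kres M) p]

/-- A `p`-subgroup of the quotient centralising a class seen below lies in the image of a defect
group. -/
theorem exists_defectGroup_le_map (hM : IsPModular p M) (hB : IsPBlock M B) {Q : Subgroup (G ⧸ N)}
    (hQ : IsPGroup p Q) {g : G} (hQg : Q ≤ Subgroup.centralizer ({(g : G ⧸ N)} : Set (G ⧸ N)))
    (hg : ¬ MemLocalIdeal M (blockCoeff (below N B) (g : G ⧸ N))) :
    ∃ P : Subgroup G, IsDefectGroup p M B P ∧ Q ≤ P.map (QuotientGroup.mk' N) := by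
  classical
  haveI := Fintype.ofFinite G
  haveI : Fintype N := Fintype.ofFinite N
  set L := Q.comap (QuotientGroup.mk' N) with hL
  obtain ⟨S⟩ : Nonempty (Sylow p L) := inferInstance
  set R := (S : Subgroup L).map L.subtype with hR
  have hRp : IsPGroup p R := S.2.map _
  have hRmap : R.map (QuotientGroup.mk' N) = Q := by
    let f : L →* Q := (QuotientGroup.mk' N).subgroupComap Q
    have hf : Function.Surjective f :=
      MonoidHom.subgroupComap_surjective_of_surjective _ _ (QuotientGroup.mk'_surjective N)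
    have htop : ((Sylow.mapSurjective hf S : Sylow p Q) : Subgroup Q) = ⊤ :=
      ((Sylow.mapSurjective hf S).3 (Q := ⊤) (hQ.of_equiv Subgroup.topEquiv.symm) le_top).symm
    rw [Sylow.coe_mapSurjective] at htop
    calc R.map (QuotientGroup.mk' N) = ((S : Subgroup L).map f).map Q.subtype := by
          rw [hR, Subgroup.map_map, Subgroup.map_map]; rfl
      _ = Q := by rw [htop, ← MonoidHom.range_eq_map, Subgroup.range_subtype]
  have hstab : ∀ (r : R) (y : G), (y : G ⧸ N) = (g : G ⧸ N) →
      (((r : G) * y * (r : G)⁻¹ : G) : G ⧸ N) = (g : G ⧸ N) := by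
    intro r y hy
    have hrQ : ((r : G) : G ⧸ N) ∈ Q := hRmap ▸ ⟨(r : G), r.2, rfl⟩
    have hc := Subgroup.mem_centralizer_singleton_iff.1 (hQg hrQ)
    rw [QuotientGroup.mk_mul, QuotientGroup.mk_mul, QuotientGroup.mk_inv, hy, hc,
      mul_inv_cancel_right]
  let α := {y : G // (y : G ⧸ N) = (g : G ⧸ N)}
  letI : MulAction R α :=
    { smul := fun r y => ⟨(r : G) * y.1 * (r : G)⁻¹, hstab r y.1 y.2⟩
      one_smul := fun y => Subtype.ext (by
        show ((1 : R) : G) * y.1 * ((1 : R) : G)⁻¹ = y.1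
        simp)
      mul_smul := fun r r' y => Subtype.ext (by
        show ((r * r' : R) : G) * y.1 * ((r * r' : R) : G)⁻¹ =
          (r : G) * ((r' : G) * y.1 * (r' : G)⁻¹) * (r : G)⁻¹
        push_cast
        group) }
  have hsum : ∑ n : N, redC M (blockCoeff B (g * n)) = ∑ y : α, redC M (blockCoeff B y.1) := by
    refine Fintype.sum_equiv
      { toFun := fun n : N => (⟨g * (n : G), by rw [QuotientGroup.mk_mul_of_mem _ n.2]⟩ : α)
        invFun := fun y : α => (⟨g⁻¹ * y.1, QuotientGroup.eq.mp y.2.symm⟩ : N)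
        left_inv := fun n => Subtype.ext (by simp)
        right_inv := fun y => Subtype.ext (by simp) } _ _ fun n => rfl
  obtain ⟨y, hy, hne⟩ : ∃ y ∈ MulAction.fixedPoints R α, redC M (blockCoeff B y.1) ≠ 0 := by
    by_contra hcon
    simp only [not_exists, not_and, not_not] at hcon
    have h0 := sum_eq_zero_of_invariant hRp (fun y : α => redC M (blockCoeff B y.1))
      (fun r y => by
        show redC M (blockCoeff B ((r : G) * y.1 * (r : G)⁻¹)) = _
        congr 1
        simpa [setIdem] using (isCentralElt_setIdem B) y.1 (r : G)) hcon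
    apply hg
    rw [← hsum, ← redC_sum _ _ fun n _ => memLocalRing_blockCoeff hB _, ← blockCoeff_below,
      redC_eq_zero_iff (memLocalRing_below hB _)] at h0
    exact h0
  obtain ⟨D, hD⟩ := HeightZero.exists_defectGroup hM hB
  obtain ⟨t, ht⟩ := HeightZero.exists_le_conj_of_coeff hM hB
    (fun h => hne ((redC_eq_zero_iff (memLocalRing_blockCoeff hB _)).2 h)) hRp
    (fun r hr => Subgroup.mem_centralizer_singleton_iff.2 (by
      have h1 : r * y.1 * r⁻¹ = y.1 := congrArg Subtype.val (hy ⟨r, hr⟩)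
      calc r * y.1 = r * y.1 * r⁻¹ * r := by group
        _ = y.1 * r := by rw [h1])) hD
  exact ⟨_, HeightZero.isDefectGroup_conj hM hB hD t, hRmap ▸ Subgroup.map_mono ht⟩

/-- Defect groups of a block below `B` lie in the images of defect groups of `B`. -/
theorem exists_defectGroup_map (hM : IsPModular p M) (hB : IsPBlock M B)
    {Bbar : Set (IrrCharacter (G ⧸ N))} (hBbar : IsPBlock M Bbar) (hsub : Bbar ⊆ below N B)
    {Dbar : Subgroup (G ⧸ N)} (hD : IsDefectGroup p M Bbar Dbar) :
    ∃ P : Subgroup G, IsDefectGroup p M B P ∧ Dbar ≤ P.map (QuotientGroup.mk' N) := by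
  classical
  haveI := Fintype.ofFinite (G ⧸ N)
  obtain ⟨φ, hφ⟩ := nonempty_of_isPBlock hBbar
  have hz : setIdem (below N B) ∈ centerO M (G ⧸ N) :=
    ⟨isCentralElt_setIdem _, memLocalRing_below hB⟩
  obtain ⟨x, hx1, hx2⟩ := HeightZero.exists_class_of_omega_unit hz (φ := φ) (by
    rw [omega_setIdem, if_pos (hsub hφ)]; exact not_memLocalIdeal_one)
  obtain ⟨t, ht⟩ := HeightZero.exists_conj_le_centralizer hM hBbar hφ hx2 hD
  have hDp : IsPGroup p Dbar := by
    obtain ⟨_, _, S, rfl⟩ := hD
    exact S.2.map _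
  obtain ⟨g, hg⟩ := QuotientGroup.mk_surjective (t * x * t⁻¹)
  refine exists_defectGroup_le_map hM hB hDp (g := g) (fun d hd => ?_) ?_
  · rw [hg, Subgroup.mem_centralizer_singleton_iff]
    exact Subgroup.mem_centralizer_iff.1 ht d hd
  · rw [hg]
    have h1 := (isCentralElt_setIdem (below N B)) x t
    rw [show blockCoeff (below N B) (t * x * t⁻¹) = blockCoeff (below N B) x by
      simpa [setIdem] using h1]
    simpa [setIdem] using hx1

end CfsgLib.Blocks.Quot
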